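import Mathlib
import Groth.Prelude.Def_W4c2filtblowupsingRees

/-!
# The extended Rees algebra: finiteness, the locus `u ≠ 0`, the prime over the maximal ideal
-/

set_option autoImplicit false

universe u

open Polynomial LaurentPolynomial IsLocalRing

namespace Groth.Agent.FiltBl28

variable {A : Type u} [CommRing A] (𝓕 : FiltBl.IdealFiltration A)

theorem coeff_T_mul (f : A[T;T⁻¹]) (m n : ℤ) :
    (f * T m).coeff n = f.coeff (n - m) := by
  induction f using LaurentPolynomial.induction_on' with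
  | add p q hp hq => simp [add_mul, hp, hq]
  | C_mul_T i a =>
    rw [mul_assoc, ← T_add, ← single_eq_C_mul_T, ← single_eq_C_mul_T]
    simp only [AddMonoidAlgebra.coeff_single, Finsupp.single_apply]
    by_cases h : i + m = n
    · rw [if_pos h, if_pos (by omega)]
    · rw [if_neg h, if_neg (by omega)]

theorem coeff_C_mul_T (a : A) (i n : ℤ) :
    (LaurentPolynomial.C a * T i).coeff n = if i = n then a else 0 := by
  rw [← single_eq_C_mul_T, AddMonoidAlgebra.coeff_single, Finsupp.single_apply]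

theorem mem_extRees {f : A[T;T⁻¹]} : f ∈ 𝓕.extRees ↔ ∀ n : ℤ, f.coeff n ∈ 𝓕.F n.toNat := Iff.rfl

theorem map_rees_le : 𝓕.rees.map Polynomial.toLaurentAlg ≤ 𝓕.extRees := by
  rintro _ ⟨f, hf, rfl⟩ n
  change f.toLaurent.coeff n ∈ _
  rcases Int.lt_or_le n 0 with hn | hn
  · rw [Int.toNat_of_nonpos hn.le, 𝓕.zero_eq]; trivial
  · obtain ⟨k, rfl⟩ := Int.eq_ofNat_of_zero_le hn
    have := hf k
    simp only [Int.toNat_natCast]
    convert this using 1
    rw [coeff_toLaurent]
    exact Finsupp.mapDomain_apply Nat.cast_injective _ _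

theorem extRees_eq :
    𝓕.extRees = 𝓕.rees.map Polynomial.toLaurentAlg ⊔ Algebra.adjoin A {T (-1)} := by
  refine le_antisymm ?_ (sup_le (map_rees_le 𝓕) ?_)
  · intro f hf
    classical
    rw [← AddMonoidAlgebra.sum_coeff_single f]
    refine Subalgebra.sum_mem _ fun n _ => ?_
    show AddMonoidAlgebra.single n (f.coeff n) ∈ _
    rw [single_eq_C_mul_T]
    rcases Int.lt_or_le n 0 with hn | hn
    · obtain ⟨k, hk⟩ : ∃ k : ℕ, n = (k : ℤ) * (-1) := ⟨(-n).toNat, by omega⟩
      rw [hk, ← T_pow]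
      refine mul_mem (Subalgebra.algebraMap_mem _ _) (pow_mem ?_ _)
      exact Algebra.mem_sup_right (Algebra.subset_adjoin rfl)
    · obtain ⟨k, rfl⟩ := Int.eq_ofNat_of_zero_le hn
      refine Algebra.mem_sup_left ⟨Polynomial.C (f.coeff (k : ℤ)) * Polynomial.X ^ k, fun m => ?_, ?_⟩
      · rw [Polynomial.coeff_C_mul_X_pow]
        split_ifs with h
        · subst h; simpa using hf (m : ℤ)
        · exact zero_mem _
      · simp
  · rw [Algebra.adjoin_le_iff, Set.singleton_subset_iff]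
    exact 𝓕.u.2

theorem finiteType_extRees (hfg : Algebra.FiniteType A 𝓕.rees) : Algebra.FiniteType A 𝓕.extRees := by
  rw [← Subalgebra.fg_iff_finiteType] at hfg ⊢
  rw [extRees_eq]
  exact (hfg.map _).sup (Subalgebra.fg_adjoin_finset {T (-1 : ℤ)} |> fun h => by simpa using h)

theorem isNoetherianRing_extRees [IsNoetherianRing A] (hfg : Algebra.FiniteType A 𝓕.rees) :
    IsNoetherianRing 𝓕.extRees := by
  haveI := finiteType_extRees 𝓕 hfg
  exact Algebra.FiniteType.isNoetherianRing A 𝓕.extRees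

theorem u_mem_nonZeroDivisors : 𝓕.u ∈ nonZeroDivisors 𝓕.extRees := by
  have key : ∀ z : 𝓕.extRees, z * 𝓕.u = 0 → z = 0 := fun z hz => Subtype.ext ((isUnit_T (R := A) (-1)).mul_left_eq_zero.1 (by
    simpa [FiltBl.IdealFiltration.u] using congrArg Subtype.val hz))
  exact mem_nonZeroDivisors_iff.2 ⟨fun z hz => key z (by rwa [mul_comm] at hz), key⟩

theorem isLocalization_away_u : IsLocalization.Away 𝓕.u A[T;T⁻¹] := by
  refine IsLocalization.Away.mk 𝓕.u (isUnit_T (-1)) (fun f => ?_) (fun a b h => ⟨0, by simpa using Subtype.ext h⟩)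
  induction f using LaurentPolynomial.induction_on' with
  | add p q hp hq =>
    obtain ⟨n, a, ha⟩ := hp
    obtain ⟨m, b, hb⟩ := hq
    refine ⟨n + m, a * 𝓕.u ^ m + b * 𝓕.u ^ n, ?_⟩
    rw [map_add, map_mul, map_mul, map_pow, map_pow, ← ha, ← hb, pow_add]
    ring
  | C_mul_T i a =>
    refine ⟨i.toNat, ⟨LaurentPolynomial.C a * T (i - i.toNat), fun n => ?_⟩, ?_⟩
    · rw [coeff_C_mul_T]
      split_ifs with h
      · rw [show n.toNat = 0 by omega, 𝓕.zero_eq]; trivial
      · exact zero_mem _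
    · show LaurentPolynomial.C a * T i * (T (-1)) ^ i.toNat = LaurentPolynomial.C a * T (i - i.toNat)
      rw [mul_assoc, T_pow, ← T_add]
      congr 2
      omega

section Local

variable [IsLocalRing A]

/-- The prime `m[T, T⁻¹]`. -/
noncomputable def mT : Ideal A[T;T⁻¹] :=
  RingHom.ker (AddMonoidAlgebra.mapRingHom ℤ (residue A))

theorem mem_mT {f : A[T;T⁻¹]} : f ∈ mT (A := A) ↔ ∀ n, f.coeff n ∈ maximalIdeal A := by
  rw [mT, RingHom.mem_ker]
  simp only [← residue_eq_zero_iff]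
  refine ⟨fun h n => ?_, fun h => AddMonoidAlgebra.ext (Finsupp.ext fun n => ?_)⟩
  · rw [← AddMonoidAlgebra.coeff_mapRingHom, h]; simp
  · rw [AddMonoidAlgebra.coeff_mapRingHom, h]; simp

instance : (mT (A := A)).IsPrime := by
  haveI : IsDomain (ResidueField A)[T;T⁻¹] := inferInstance
  exact RingHom.ker_isPrime _

theorem comap_mT : (mT (A := A)).comap (algebraMap A A[T;T⁻¹]) = maximalIdeal A := by
  ext a
  rw [Ideal.mem_comap, mem_mT]
  refine ⟨fun h => ?_, fun h n => ?_⟩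
  · simpa [LaurentPolynomial.algebraMap_apply] using h 0
  · rw [LaurentPolynomial.algebraMap_apply, Algebra.algebraMap_self, RingHom.id_apply]
    by_cases hn : (0 : ℤ) = n
    · subst hn; simpa using h
    · simp [Ne.symm hn]

theorem mT_le : mT (A := A) ≤ (maximalIdeal A).map (algebraMap A A[T;T⁻¹]) := by
  intro f hf
  classical
  rw [← AddMonoidAlgebra.sum_coeff_single f]
  refine Ideal.sum_mem _ fun n _ => ?_
  show AddMonoidAlgebra.single n (f.coeff n) ∈ _
  rw [single_eq_C_mul_T]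
  refine Ideal.mul_mem_right _ _ ?_
  exact Ideal.mem_map_of_mem (algebraMap A A[T;T⁻¹]) (mem_mT.1 hf n)

theorem exists_prime_u_above (h1 : 𝓕.F 1 ≠ ⊤) :
    ∃ M : Ideal 𝓕.extRees, M.IsPrime ∧ 𝓕.u ∈ M ∧
      (mT (A := A)).comap (algebraMap 𝓕.extRees A[T;T⁻¹]) ≤ M := by
  let J : Ideal 𝓕.extRees := (mT (A := A)).comap (algebraMap 𝓕.extRees A[T;T⁻¹]) ⊔ Ideal.span {𝓕.u}
  have hJ : J ≠ ⊤ := by
    rw [Ne, Ideal.eq_top_iff_one, Submodule.mem_sup]
    rintro ⟨x, hx, y, hy, hxy⟩
    obtain ⟨g, rfl⟩ := Ideal.mem_span_singleton'.1 hy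
    have h := congrArg (fun z : 𝓕.extRees => (z : A[T;T⁻¹]).coeff 0) hxy
    simp only [AddMemClass.coe_add, MulMemClass.coe_mul, OneMemClass.coe_one, AddMonoidAlgebra.coeff_add,
      Finsupp.add_apply] at h
    rw [show ((𝓕.u : 𝓕.extRees) : A[T;T⁻¹]) = T (-1) from rfl, coeff_T_mul] at h
    have hxm : (x : A[T;T⁻¹]).coeff 0 ∈ maximalIdeal A := mem_mT.1 hx 0
    have hgm : (g : A[T;T⁻¹]).coeff (0 - -1) ∈ maximalIdeal A := le_maximalIdeal h1 (by simpa using g.2 (0 - -1))
    have := add_mem hxm hgm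
    rw [h] at this
    exact (maximalIdeal.isMaximal A).ne_top (Ideal.eq_top_iff_one _ |>.2 (by simpa [← LaurentPolynomial.T_zero] using this))
  obtain ⟨M, hM, hJM⟩ := Ideal.exists_le_maximal J hJ
  exact ⟨M, hM.isPrime, hJM (Ideal.mem_sup_right (Ideal.mem_span_singleton_self _)),
    le_sup_left.trans hJM⟩

theorem F_one_ne_top [Nontrivial A] (hsep : ⨅ n, 𝓕.F n = ⊥) : 𝓕.F 1 ≠ ⊤ := by
  intro h
  have : ∀ n, 𝓕.F n = ⊤ := by
    intro n
    induction n with
    | zero => exact 𝓕.zero_eq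
    | succ n ih => rw [← top_le_iff]; exact le_trans (by rw [ih, h, Ideal.top_mul]) (𝓕.mul_le n 1)
  simp [this] at hsep

end Local

end Groth.Agent.FiltBl28
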