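import Groth.Agent.Lib.FiltBl28.Basic
import Groth.Agent.Lib.Goren15.Polynomial
import Groth.Agent.Lib.SMT.CMBasic
import Groth.Agent.Lib.Cohen.CMLocus
import Groth.Agent.Lib.FlatDepth.CMTensor
import Groth.Agent.Lib.UCat.Universal
import Groth.Agent.Lib.Goren.GorenDual27
import Groth.Agent.S0343

/-!
# Local properties of the extended Rees algebra and of the associated graded ring
-/

set_option autoImplicit false
set_option linter.style.haveILetI false

universe u

open Polynomial LaurentPolynomial IsLocalRing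

namespace Groth.Agent.FiltBl28

/-- A property of rings, read on the local rings of a ring. -/
def AllLoc (Φ : ∀ (R : Type u) [CommRing R], Prop) (B : Type u) [CommRing B] : Prop :=
  ∀ (p : Ideal B) [p.IsPrime], Φ (Localization.AtPrime p)

/-- The axioms used by the criterion. -/
structure Good (Φ : ∀ (R : Type u) [CommRing R], Prop) : Prop where
  iso : ∀ {R S : Type u} [CommRing R] [CommRing S], (R ≃+* S) → Φ R → Φ S
  quot : ∀ {R : Type u} [CommRing R] [IsLocalRing R] [IsNoetherianRing R] (f : R),
    f ∈ maximalIdeal R → IsSMulRegular R f → (Φ R ↔ Φ (R ⧸ Ideal.span {f}))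
  gen : ∀ {B : Type u} [CommRing B] [IsNoetherianRing B] {p q : Ideal B} [p.IsPrime] [q.IsPrime],
    p ≤ q → Φ (Localization.AtPrime q) → Φ (Localization.AtPrime p)
  descend : ∀ (A : Type u) [CommRing A] [IsLocalRing A] [IsNoetherianRing A],
    Φ (Localization.AtPrime (mT (A := A))) → Φ A
  laurent : ∀ (A : Type u) [CommRing A] [IsLocalRing A] [IsNoetherianRing A],
    Φ A → AllLoc Φ A[T;T⁻¹]

theorem Good.allLoc_of_isLocalization {Φ : ∀ (R : Type u) [CommRing R], Prop} (hΦ : Good Φ)
    {B C : Type u} [CommRing B] [CommRing C] [Algebra B C] (M : Submonoid B) [IsLocalization M C]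
    (h : AllLoc Φ B) : AllLoc Φ C := by
  intro q _
  haveI : IsLocalization.AtPrime (Localization.AtPrime q) (q.comap (algebraMap B C)) :=
    IsLocalization.isLocalization_isLocalization_atPrime_isLocalization M _ q
  exact hΦ.iso (IsLocalization.algEquiv (q.comap (algebraMap B C)).primeCompl
    (Localization.AtPrime (q.comap (algebraMap B C))) (Localization.AtPrime q)).toRingEquiv (h _)

theorem Good.loc_quot_iff {Φ : ∀ (R : Type u) [CommRing R], Prop} (hΦ : Good Φ)
    {R B : Type u} [CommRing R] [CommRing B] [IsNoetherianRing R] (π : R →+* B)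
    (hπ : Function.Surjective π) (f : R) (hker : RingHom.ker π = Ideal.span {f})
    (hf : f ∈ nonZeroDivisors R) (P : Ideal B) [P.IsPrime] :
    Φ (Localization.AtPrime (P.comap π)) ↔ Φ (Localization.AtPrime P) := by
  obtain ⟨e⟩ := Goren15.nonempty_localization_quotient_equiv π hπ P
  have hfm : algebraMap R (Localization.AtPrime (P.comap π)) f ∈ maximalIdeal _ := by
    rw [IsLocalization.AtPrime.to_map_mem_maximal_iff _ (P.comap π)]
    show π f ∈ P
    rw [RingHom.mem_ker.1 (hker.symm ▸ Ideal.mem_span_singleton_self f : f ∈ RingHom.ker π)]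
    exact P.zero_mem
  have hreg : IsSMulRegular (Localization.AtPrime (P.comap π))
      (algebraMap R (Localization.AtPrime (P.comap π)) f) :=
    isSMulRegular_iff_right_eq_zero_of_smul.2 fun x hx =>
      (mem_nonZeroDivisors_iff.1 (IsLocalization.map_nonZeroDivisors_le (P.comap π).primeCompl _
        (Submonoid.mem_map_of_mem _ hf))).1 x hx
  have hk : Ideal.span {algebraMap R (Localization.AtPrime (P.comap π)) f} =
      (RingHom.ker π).map (algebraMap R (Localization.AtPrime (P.comap π))) := by
    rw [hker, Ideal.map_span, Set.image_singleton]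
  let e' := (Ideal.quotEquivOfEq hk).trans e
  rw [hΦ.quot _ hfm hreg]
  exact ⟨hΦ.iso e', hΦ.iso e'.symm⟩

theorem allLoc_away_iff {Φ : ∀ (R : Type u) [CommRing R], Prop} (hΦ : Good Φ)
    {A : Type u} [CommRing A] [IsNoetherianRing A] [IsLocalRing A]
    {R : Type u} [CommRing R] [IsNoetherianRing R] [Algebra R A[T;T⁻¹]] (u : R)
    [IsLocalization.Away u A[T;T⁻¹]] (hu0 : u ∈ nonZeroDivisors R)
    (hM : ∃ M : Ideal R, M.IsPrime ∧ u ∈ M ∧ (mT (A := A)).comap (algebraMap R A[T;T⁻¹]) ≤ M) :
    AllLoc Φ R ↔ AllLoc Φ (R ⧸ Ideal.span {u}) := by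
  let π := Ideal.Quotient.mk (Ideal.span {u})
  refine ⟨fun h P _ => (hΦ.loc_quot_iff π Ideal.Quotient.mk_surjective u Ideal.mk_ker hu0 P).1 (h _),
    fun h Q _ => ?_⟩
  have hu : ∀ (Q : Ideal R) [Q.IsPrime], u ∈ Q → Φ (Localization.AtPrime Q) := by
    intro Q _ hQ
    haveI : (Q.map π).IsPrime := Ideal.map_isPrime_of_surjective Ideal.Quotient.mk_surjective
      (by rwa [Ideal.mk_ker, Ideal.span_singleton_le_iff_mem])
    have hQ' : (Q.map π).comap π = Q := by
      rw [Ideal.comap_map_of_surjective π Ideal.Quotient.mk_surjective, ← RingHom.ker_eq_comap_bot,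
        sup_eq_left, Ideal.mk_ker, Ideal.span_singleton_le_iff_mem]
      exact hQ
    have key : ∀ (Q₀ : Ideal R) [Q₀.IsPrime], Q₀ = Q → Φ (Localization.AtPrime Q₀) →
        Φ (Localization.AtPrime Q) := by rintro _ _ rfl h; exact h
    exact key _ hQ'
      ((hΦ.loc_quot_iff π Ideal.Quotient.mk_surjective u Ideal.mk_ker hu0 (Q.map π)).2 (h _))
  by_cases hQ : u ∈ Q
  · exact hu Q hQ
  obtain ⟨M, hMp, hMu, hMle⟩ := hM
  have hP0 := hΦ.gen hMle (hu M hMu)
  haveI : IsLocalization.AtPrime (Localization.AtPrime (mT (A := A)))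
      ((mT (A := A)).comap (algebraMap R A[T;T⁻¹])) :=
    IsLocalization.isLocalization_isLocalization_atPrime_isLocalization (Submonoid.powers u) _ _
  have hA : Φ A := hΦ.descend A (hΦ.iso (IsLocalization.algEquiv
    ((mT (A := A)).comap (algebraMap R A[T;T⁻¹])).primeCompl _ _).toRingEquiv hP0)
  have hd : Disjoint (Submonoid.powers u : Set R) (Q : Set R) :=
    Set.disjoint_left.2 fun _ ⟨n, hn⟩ hx => hQ (Ideal.IsPrime.mem_of_pow_mem ‹_› n (by subst hn; exact hx))
  haveI hQp : (Q.map (algebraMap R A[T;T⁻¹])).IsPrime :=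
    IsLocalization.isPrime_of_isPrime_disjoint (Submonoid.powers u) _ Q ‹_› hd
  haveI : IsLocalization.AtPrime (Localization.AtPrime (Q.map (algebraMap R A[T;T⁻¹]))) Q := by
    have := IsLocalization.isLocalization_isLocalization_atPrime_isLocalization (Submonoid.powers u)
      (Localization.AtPrime (Q.map (algebraMap R A[T;T⁻¹]))) (Q.map (algebraMap R A[T;T⁻¹]))
    convert this
    exact (IsLocalization.under_map_of_isPrime_disjoint (Submonoid.powers u) _ ‹_› hd).symm
  exact hΦ.iso (IsLocalization.algEquiv Q.primeCompl (Localization.AtPrime (Q.map (algebraMap R A[T;T⁻¹]))) _).toRingEquiv (hΦ.laurent A hA _)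

theorem allLoc_extRees_iff {Φ : ∀ (R : Type u) [CommRing R], Prop} (hΦ : Good Φ)
    {A : Type u} [CommRing A] [IsNoetherianRing A] [IsLocalRing A]
    (𝓕 : FiltBl.IdealFiltration A) (hsep : ⨅ n, 𝓕.F n = ⊥) (hfg : Algebra.FiniteType A 𝓕.rees) :
    AllLoc Φ 𝓕.extRees ↔ AllLoc Φ 𝓕.Gr :=
  haveI := isNoetherianRing_extRees 𝓕 hfg
  haveI := isLocalization_away_u 𝓕
  allLoc_away_iff hΦ 𝓕.u (u_mem_nonZeroDivisors 𝓕) (exists_prime_u_above 𝓕 (F_one_ne_top 𝓕 hsep))

theorem flat_atPrime_mT (A : Type u) [CommRing A] [IsLocalRing A] :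
    Module.Flat A (Localization.AtPrime (mT (A := A))) := by
  haveI : Module.Flat A A[T;T⁻¹] := inferInstance
  exact Module.Flat.trans A A[T;T⁻¹] _

theorem map_maximalIdeal_atPrime_mT (A : Type u) [CommRing A] [IsLocalRing A] :
    (maximalIdeal A).map (algebraMap A (Localization.AtPrime (mT (A := A)))) =
      maximalIdeal (Localization.AtPrime (mT (A := A))) := by
  rw [← Localization.AtPrime.map_eq_maximalIdeal, IsScalarTower.algebraMap_eq A A[T;T⁻¹], ← Ideal.map_map]
  refine le_antisymm (Ideal.map_mono ?_) (Ideal.map_mono mT_le)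
  rw [Ideal.map_le_iff_le_comap, comap_mT]

theorem allLoc_of_local {Φ : ∀ (R : Type u) [CommRing R], Prop}
    (iso : ∀ {R S : Type u} [CommRing R] [CommRing S], (R ≃+* S) → Φ R → Φ S)
    (gen : ∀ {B : Type u} [CommRing B] [IsNoetherianRing B] {p q : Ideal B} [p.IsPrime] [q.IsPrime],
      p ≤ q → Φ (Localization.AtPrime q) → Φ (Localization.AtPrime p))
    (A : Type u) [CommRing A] [IsLocalRing A] [IsNoetherianRing A] (h : Φ A) : AllLoc Φ A := by
  intro p hp
  haveI : IsLocalization.AtPrime A (maximalIdeal A) :=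
    IsLocalization.self (fun x hx => IsLocalRing.notMem_maximalIdeal.1 hx)
  exact gen (le_maximalIdeal hp.ne_top)
    (iso (IsLocalization.algEquiv (maximalIdeal A).primeCompl A (Localization.AtPrime (maximalIdeal A))).toRingEquiv h)

theorem cm_gen {B : Type u} [CommRing B] [IsNoetherianRing B] {p q : Ideal B} [p.IsPrime] [q.IsPrime]
    (hpq : p ≤ q) (h : LocCoh.IsCohenMacaulayLocalRing (Localization.AtPrime q)) :
    LocCoh.IsCohenMacaulayLocalRing (Localization.AtPrime p) := SMT.isCM_localization_of_le hpq h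

theorem gor_gen {B : Type u} [CommRing B] [IsNoetherianRing B] {p q : Ideal B} [p.IsPrime] [q.IsPrime]
    (hpq : p ≤ q) (h : LocCoh.IsGorensteinLocalRing (Localization.AtPrime q)) :
    LocCoh.IsGorensteinLocalRing (Localization.AtPrime p) := by
  have hd : Disjoint (q.primeCompl : Set B) (p : Set B) := Set.disjoint_left.2 fun x hx hxp => hx (hpq hxp)
  haveI hP : (p.map (algebraMap B (Localization.AtPrime q))).IsPrime :=
    IsLocalization.isPrime_of_isPrime_disjoint q.primeCompl _ p inferInstance hd
  haveI hG := GorenLib.gorenstein_atPrime (p.map (algebraMap B (Localization.AtPrime q)))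
  haveI : IsLocalization.AtPrime (Localization.AtPrime (p.map (algebraMap B (Localization.AtPrime q)))) p := by
    have := IsLocalization.isLocalization_isLocalization_atPrime_isLocalization q.primeCompl
      (T := Localization.AtPrime (p.map (algebraMap B (Localization.AtPrime q))))
      (p.map (algebraMap B (Localization.AtPrime q)))
    convert this
    exact (IsLocalization.under_map_of_isPrime_disjoint q.primeCompl _ inferInstance hd).symm
  exact (Goren15.isGorensteinLocalRing_iff_of_ringEquiv (IsLocalization.algEquiv p.primeCompl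
    (Localization.AtPrime (p.map (algebraMap B (Localization.AtPrime q)))) (Localization.AtPrime p)).toRingEquiv).1 hG

theorem good_cm : Good (fun R _ => LocCoh.IsCohenMacaulayLocalRing R) where
  iso e h := SMT.isCM_of_ringEquiv e h
  quot {R} _ _ _ f hf hreg := by
    haveI := GorenLib.isLocalRing_quotient hf
    rw [Cohen.cm_iff_supportDim_le, Cohen.cm_iff_supportDim_le,
      ← GorenLib.ringKrullDim_quotient_add_one hf hreg, ← GorenLib.depth_quotient_add_one hf hreg,
      WithBot.coe_add]
    exact ⟨fun h => DepthLib.withBot_add_coe_cancel 1 (by exact_mod_cast h), fun h => by exact_mod_cast add_le_add_left h 1⟩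
  gen := cm_gen
  descend A _ _ _ h := by
    haveI := flat_atPrime_mT A
    haveI : IsNoetherianRing A[T;T⁻¹] := IsLocalization.isNoetherianRing (Submonoid.powers (Polynomial.X : A[X])) _ inferInstance
    have hf : ∀ k, FlatDepth.SkIneq k (EGA4.FibLocRing A A[T;T⁻¹] (mT (A := A))) := by
      have hk : ((mT (A := A)).comap (algebraMap A A[T;T⁻¹])).map
          (algebraMap A (Localization.AtPrime (mT (A := A)))) = maximalIdeal _ := by
        rw [comap_mT, map_maximalIdeal_atPrime_mT]
      let e : ResidueField (Localization.AtPrime (mT (A := A))) ≃+* EGA4.FibLocRing A A[T;T⁻¹] (mT (A := A)) :=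
        Ideal.quotEquivOfEq hk.symm
      intro k
      exact FlatDepth.SkIneq.congr e
        ((FlatDepth.forall_skIneq_iff _).2 DepthLib.isCohenMacaulayLocalRing_of_isRegularLocalRing k)
    have h1 := (Cohen.cm_iff_of_flat (mT (A := A)) hf).1 h
    haveI : IsLocalization.AtPrime A ((mT (A := A)).comap (algebraMap A A[T;T⁻¹])) :=
      IsLocalization.self (fun x hx => by
        rw [Ideal.mem_primeCompl_iff, comap_mT] at hx
        exact IsLocalRing.notMem_maximalIdeal.1 hx)
    exact SMT.isCM_of_ringEquiv (IsLocalization.algEquiv ((mT (A := A)).comap (algebraMap A A[T;T⁻¹])).primeCompl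
      (Localization.AtPrime _) A).toRingEquiv h1
  laurent A _ _ _ h := by
    haveI : LocCoh.IsCohenMacaulayRing A := ⟨allLoc_of_local (fun e h => SMT.isCM_of_ringEquiv e h) cm_gen A h⟩
    haveI := UCat.isCM_mvPolynomial A 1
    let e : MvPolynomial (Fin 1) A ≃+* A[X] := (MvPolynomial.uniqueAlgEquiv A (Fin 1)).toRingEquiv
    intro q _
    let b := q.comap (algebraMap A[X] A[T;T⁻¹])
    haveI : IsLocalization.AtPrime (Localization.AtPrime q) b :=
      IsLocalization.isLocalization_isLocalization_atPrime_isLocalization (Submonoid.powers (Polynomial.X : A[X])) _ q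
    let e1 : Localization.AtPrime (b.comap e.toRingHom) ≃+* Localization.AtPrime b :=
      Localization.localRingEquiv _ _ e rfl
    exact SMT.isCM_of_ringEquiv (e1.trans (IsLocalization.algEquiv b.primeCompl
      (Localization.AtPrime b) (Localization.AtPrime q)).toRingEquiv)
      (LocCoh.IsCohenMacaulayRing.isCohenMacaulayLocalRing_localization _)

theorem good_gor : Good (fun R _ => LocCoh.IsGorensteinLocalRing R) where
  iso e h := (Goren15.isGorensteinLocalRing_iff_of_ringEquiv e).1 h
  quot f hf hreg := S0343.result _ f hf hreg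
  gen := gor_gen
  descend A _ _ _ h := by
    haveI := flat_atPrime_mT A
    haveI : IsNoetherianRing A[T;T⁻¹] := IsLocalization.isNoetherianRing (Submonoid.powers (Polynomial.X : A[X])) _ inferInstance
    haveI : IsNoetherianRing (Localization.AtPrime (mT (A := A))) :=
      IsLocalization.isNoetherianRing (mT (A := A)).primeCompl _ inferInstance
    haveI : IsLocalHom (algebraMap A (Localization.AtPrime (mT (A := A)))) :=
      ((IsLocalRing.local_hom_TFAE (algebraMap A (Localization.AtPrime (mT (A := A))))).out 0 2).2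
        (map_maximalIdeal_atPrime_mT A).le
    exact ((Goren15.gorenstein_flat_local_iff A (Localization.AtPrime (mT (A := A)))).1 h).1
  laurent A _ _ _ h := by
    haveI : LocCoh.IsGorensteinRing A :=
      ⟨allLoc_of_local (fun e h => (Goren15.isGorensteinLocalRing_iff_of_ringEquiv e).1 h) gor_gen A h⟩
    haveI := Goren15.isGorensteinRing_polynomial A
    haveI := Goren15.isGorensteinRing_of_isLocalization (B := A[T;T⁻¹]) (Submonoid.powers (Polynomial.X : A[X]))
    intro q _
    exact LocCoh.IsGorensteinRing.isGorensteinLocalRing_localization q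

end Groth.Agent.FiltBl28
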