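import Groth.Agent.Lib.FiltBl28.Basic
import Groth.Agent.Lib.SMT.Nagata

/-!
# Factoriality of the extended Rees algebra
-/

set_option autoImplicit false
set_option linter.style.haveILetI false

universe u

open Polynomial LaurentPolynomial

namespace Groth.Agent.FiltBl28

variable {A : Type u} [CommRing A] [IsDomain A]

theorem eq_C_mul_T_of_mul_eq {x y : A[T;T⁻¹]} {a : A} {n : ℤ} (ha : a ≠ 0)
    (h : x * y = LaurentPolynomial.C a * T n) :
    ∃ (c : A) (i : ℤ), x = LaurentPolynomial.C c * T i := by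
  obtain ⟨N, f, hf⟩ := LaurentPolynomial.exists_T_pow x
  obtain ⟨M, g, hg⟩ := LaurentPolynomial.exists_T_pow y
  obtain ⟨P, k, hk⟩ : ∃ (P k : ℕ), n + (N : ℤ) + M + P = k :=
    ⟨(-(n + (N : ℤ) + M)).toNat, (n + (N : ℤ) + M + (-(n + (N : ℤ) + M)).toNat).toNat, by omega⟩
  have hmul : f * (g * Polynomial.X ^ P) = Polynomial.C a * Polynomial.X ^ k := by
    apply Polynomial.toLaurent_injective
    rw [map_mul, map_mul, map_mul, Polynomial.toLaurent_X_pow, Polynomial.toLaurent_X_pow,
      Polynomial.toLaurent_C, hf, hg, ← hk, T_add, T_add, T_add]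
    linear_combination (T (N : ℤ) * T (M : ℤ) * T (P : ℤ)) * h
  have hne : Polynomial.C a * Polynomial.X ^ k ≠ (0 : A[X]) := mul_ne_zero (C_ne_zero.2 ha) (pow_ne_zero _ X_ne_zero)
  have hf0 : f ≠ 0 := fun h0 => hne (by rw [← hmul, h0, zero_mul])
  have hg0 : g * Polynomial.X ^ P ≠ 0 := fun h0 => hne (by rw [← hmul, h0, mul_zero])
  have h1 := congrArg Polynomial.natDegree hmul
  have h2 := congrArg Polynomial.natTrailingDegree hmul
  rw [Polynomial.natDegree_mul hf0 hg0, Polynomial.natDegree_C_mul_X_pow k a ha] at h1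
  rw [Polynomial.natTrailingDegree_mul hf0 hg0, Polynomial.natTrailingDegree_mul_X_pow (C_ne_zero.2 ha),
    Polynomial.natTrailingDegree_C, zero_add] at h2
  have := Polynomial.natTrailingDegree_le_natDegree f
  have := Polynomial.natTrailingDegree_le_natDegree (g * Polynomial.X ^ P)
  have heq : f = Polynomial.C (f.coeff f.natDegree) * Polynomial.X ^ f.natDegree := by
    ext m
    rw [Polynomial.coeff_C_mul_X_pow]
    split_ifs with hm
    · rw [hm]
    · rcases lt_or_gt_of_ne hm with hlt | hgt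
      · exact Polynomial.coeff_eq_zero_of_lt_natTrailingDegree (by omega)
      · exact Polynomial.coeff_eq_zero_of_natDegree_lt hgt
  refine ⟨f.coeff f.natDegree, (f.natDegree : ℤ) - N, ?_⟩
  apply (isUnit_T (R := A) (N : ℤ)).mul_right_cancel
  rw [← hf, mul_assoc, ← T_add, sub_add_cancel, ← Polynomial.toLaurent_C_mul_X_pow, ← heq]

theorem prime_of_isUFM_laurent [UniqueFactorizationMonoid A[T;T⁻¹]] {a : A} (ha : Irreducible a) :
    Prime a := by
  have hirr : Irreducible (LaurentPolynomial.C a : A[T;T⁻¹]) := by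
    refine ⟨fun hu => ha.not_isUnit ?_, fun x y hxy => ?_⟩
    · obtain ⟨y, hy⟩ := hu.exists_right_inv
      obtain ⟨c, i, rfl⟩ := eq_C_mul_T_of_mul_eq one_ne_zero (x := y) (y := LaurentPolynomial.C a) (n := 0) (by
        rw [mul_comm, hy, map_one, T_zero, mul_one])
      have h := congrArg (fun z : A[T;T⁻¹] => z.coeff 0) hy
      rw [← mul_assoc, ← map_mul] at h
      simp only [coeff_C_mul_T, ← LaurentPolynomial.T_zero, LaurentPolynomial.T_apply] at h
      rcases eq_or_ne i 0 with hi | hi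
      · rw [if_pos hi] at h
        exact IsUnit.of_mul_eq_one _ (by simpa using h)
      · rw [if_neg hi] at h; simp at h
    · have h0 : x * y = LaurentPolynomial.C a * T 0 := by rw [← hxy, T_zero, mul_one]
      obtain ⟨c, i, rfl⟩ := eq_C_mul_T_of_mul_eq ha.ne_zero h0
      obtain ⟨d, j, rfl⟩ := eq_C_mul_T_of_mul_eq ha.ne_zero (x := y) (y := LaurentPolynomial.C c * T i) (by rw [mul_comm, h0])
      have h := congrArg (fun z : A[T;T⁻¹] => z.coeff 0) h0
      rw [show LaurentPolynomial.C c * T i * (LaurentPolynomial.C d * T j) = LaurentPolynomial.C (c * d) * T (i + j) by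
        rw [map_mul, T_add]; ring] at h
      simp only [coeff_C_mul_T, if_pos] at h
      rcases eq_or_ne (i + j) 0 with hij | hij
      · rw [if_pos hij] at h
        exact (ha.isUnit_or_isUnit h.symm).imp (fun hu => (hu.map _).mul (isUnit_T i))
          (fun hu => (hu.map _).mul (isUnit_T j))
      · rw [if_neg hij] at h; exact absurd h.symm ha.ne_zero
  have hp : Prime (LaurentPolynomial.C a : A[T;T⁻¹]) := hirr.prime
  have key : ∀ b : A, LaurentPolynomial.C a ∣ (LaurentPolynomial.C b : A[T;T⁻¹]) → a ∣ b := by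
    rintro b ⟨w, hw⟩
    refine ⟨w.coeff 0, ?_⟩
    have h := congrArg (fun z : A[T;T⁻¹] => z.coeff 0) hw
    beta_reduce at h
    change _ = (AddMonoidAlgebra.single (0 : ℤ) a * w).coeff 0 at h
    rw [AddMonoidAlgebra.coeff_single_zero_mul, ← mul_one (LaurentPolynomial.C b), ← LaurentPolynomial.T_zero,
      coeff_C_mul_T, if_pos rfl] at h
    exact h
  exact ⟨ha.ne_zero, ha.not_isUnit, fun b c hbc => (hp.dvd_or_dvd (by
    rw [← map_mul]; exact map_dvd _ hbc)).imp (key b) (key c)⟩

theorem ufd_of_isLocalization {B C : Type u} [CommRing B] [IsDomain B] [UniqueFactorizationMonoid B]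
    [CommRing C] [IsDomain C] [Algebra B C] (M : Submonoid B) [IsLocalization M C] (hM : M ≤ nonZeroDivisors B) :
    UniqueFactorizationMonoid C := by
  refine UniqueFactorizationMonoid.iff_exists_prime_mem_of_isPrime.mpr fun I hI0 hI => ?_
  have hinj : Function.Injective (algebraMap B C) := IsLocalization.injective C hM
  have hne : I.comap (algebraMap B C) ≠ ⊥ := fun h => hI0 (by
    rw [← IsLocalization.map_under M C I, Ideal.under_def, h, Ideal.map_bot])
  obtain ⟨q, hqI, hq⟩ := (Ideal.IsPrime.comap (algebraMap B C)).exists_mem_prime_of_ne_bot hne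
  refine ⟨algebraMap B C q, hqI, ?_⟩
  have hspan : (Ideal.span {q}).IsPrime := (Ideal.span_singleton_prime hq.ne_zero).2 hq
  have hd : Disjoint (M : Set B) (Ideal.span {q} : Set B) := Set.disjoint_left.2 fun x hx hxq => by
    obtain ⟨c, rfl⟩ := Ideal.mem_span_singleton'.1 hxq
    refine hI.ne_top (Ideal.eq_top_of_isUnit_mem _ ?_ (IsLocalization.map_units C ⟨_, hx⟩))
    show algebraMap B C (c * q) ∈ I
    rw [map_mul]; exact Ideal.mul_mem_left _ _ hqI
  have := IsLocalization.isPrime_of_isPrime_disjoint M C _ hspan hd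
  rw [Ideal.map_span, Set.image_singleton] at this
  exact (Ideal.span_singleton_prime (fun h => hq.ne_zero (hinj (by rw [h, map_zero])))).1 this

theorem ufd_laurent_iff [IsNoetherianRing A] :
    UniqueFactorizationMonoid A[T;T⁻¹] ↔ UniqueFactorizationMonoid A := by
  constructor
  · intro _
    exact { irreducible_iff_prime := fun {a} => ⟨prime_of_isUFM_laurent, Prime.irreducible⟩ }
  · intro _
    haveI : IsDomain A[T;T⁻¹] := inferInstance
    exact ufd_of_isLocalization (B := A[X]) (Submonoid.powers (Polynomial.X : A[X]))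
      (powers_le_nonZeroDivisors_of_noZeroDivisors Polynomial.X_ne_zero)

theorem irreducible_u (𝓕 : FiltBl.IdealFiltration A) (h1 : 𝓕.F 1 ≠ ⊤) : Irreducible 𝓕.u := by
  have hu : ((𝓕.u : 𝓕.extRees) : A[T;T⁻¹]) = T (-1) := rfl
  refine ⟨fun hunit => ?_, fun x y hxy => ?_⟩
  · obtain ⟨w, hw⟩ := hunit.exists_right_inv
    have h := congrArg (fun z : 𝓕.extRees => (z : A[T;T⁻¹]).coeff 0) hw
    simp only [MulMemClass.coe_mul, OneMemClass.coe_one] at h
    rw [hu, mul_comm, coeff_T_mul, ← LaurentPolynomial.T_zero] at h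
    refine h1 ((Ideal.eq_top_iff_one _).2 ?_)
    have hm := w.2 (0 - -1)
    rw [h] at hm
    simpa using hm
  · have h0 : (x : A[T;T⁻¹]) * (y : A[T;T⁻¹]) = LaurentPolynomial.C 1 * T (-1) := by
      rw [map_one, one_mul, ← hu, hxy]; rfl
    obtain ⟨c, i, hx⟩ := eq_C_mul_T_of_mul_eq one_ne_zero h0
    obtain ⟨d, j, hy⟩ := eq_C_mul_T_of_mul_eq one_ne_zero (x := (y : A[T;T⁻¹])) (y := (x : A[T;T⁻¹])) (by rw [mul_comm, h0])
    rw [hx, hy, show LaurentPolynomial.C c * T i * (LaurentPolynomial.C d * T j) = LaurentPolynomial.C (c * d) * T (i + j) by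
      rw [map_mul, T_add]; ring] at h0
    have hc := congrArg (fun z : A[T;T⁻¹] => z.coeff (-1)) h0
    simp only [coeff_C_mul_T] at hc
    rcases eq_or_ne (i + j) (-1) with hij | hij
    swap
    · simp [hij] at hc
    rw [if_pos hij] at hc
    simp at hc
    -- a positive degree would give a unit in `F 1`
    have key : ∀ (z : 𝓕.extRees) (e e' : A) (k : ℤ), (z : A[T;T⁻¹]) = LaurentPolynomial.C e * T k →
        e * e' = 1 → k ≤ 0 ∧ (k = 0 → IsUnit z) := by
      intro z e e' k hz hee
      refine ⟨?_, fun hk => ?_⟩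
      · by_contra hk
        have hm := z.2 k
        rw [hz, coeff_C_mul_T, if_pos rfl] at hm
        refine h1 ((Ideal.eq_top_iff_one _).2 ?_)
        have := Ideal.mul_mem_right e' _ (𝓕.antitone (show 1 ≤ k.toNat by omega) hm)
        rwa [hee] at this
      · subst hk
        have : z = algebraMap A 𝓕.extRees e := Subtype.ext (by rw [hz, T_zero, mul_one]; rfl)
        rw [this]
        exact (IsUnit.of_mul_eq_one e' hee).map _
    obtain ⟨hi, hiu⟩ := key x c d i hx hc
    obtain ⟨hj, hju⟩ := key y d c j hy (by rwa [mul_comm])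
    rcases eq_or_ne i 0 with hi0 | hi0
    · exact Or.inl (hiu hi0)
    · exact Or.inr (hju (by omega))

theorem ufd_away_iff [IsNoetherianRing A] {R : Type u} [CommRing R] [IsDomain R] [IsNoetherianRing R]
    [Algebra R A[T;T⁻¹]] (u : R) [IsLocalization.Away u A[T;T⁻¹]] (hu : Irreducible u) :
    UniqueFactorizationMonoid R ↔ UniqueFactorizationMonoid A ∧ IsDomain (R ⧸ Ideal.span {u}) := by
  constructor
  · intro _
    refine ⟨ufd_laurent_iff.1 (ufd_of_isLocalization (B := R) (Submonoid.powers u)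
      (powers_le_nonZeroDivisors_of_noZeroDivisors hu.ne_zero)), ?_⟩
    rw [Ideal.Quotient.isDomain_iff_prime, Ideal.span_singleton_prime hu.ne_zero]
    exact hu.prime
  · rintro ⟨hA, hG⟩
    haveI := ufd_laurent_iff.2 hA
    refine SMT.ufd_of_away u (P := A[T;T⁻¹]) ?_
    rw [← Ideal.span_singleton_prime hu.ne_zero, ← Ideal.Quotient.isDomain_iff_prime]
    exact hG

theorem ufd_extRees_iff [IsNoetherianRing A] (𝓕 : FiltBl.IdealFiltration A) [IsDomain 𝓕.extRees]
    (hfg : Algebra.FiniteType A 𝓕.rees) (h1 : 𝓕.F 1 ≠ ⊤) :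
    UniqueFactorizationMonoid 𝓕.extRees ↔ UniqueFactorizationMonoid A ∧ IsDomain 𝓕.Gr :=
  haveI := isNoetherianRing_extRees 𝓕 hfg
  haveI := isLocalization_away_u 𝓕
  ufd_away_iff 𝓕.u (irreducible_u 𝓕 h1)

end Groth.Agent.FiltBl28
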