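import Groth.Agent.Lib.FiltBl28.Serre
import Groth.Agent.Lib.SMT.CMBasic
import Groth.Agent.Lib.Cohen.CMLocus

/-!
# Cohen–Macaulayness of the extended Rees algebra off the positive part
-/

set_option autoImplicit false
set_option linter.style.haveILetI false

universe u

open Polynomial LaurentPolynomial IsLocalRing

namespace Groth.Agent.FiltBl28

open FlatDepth

theorem loc_equiv_of_isLocalization {B C : Type u} [CommRing B] [CommRing C] [Algebra B C] (M : Submonoid B)
    [IsLocalization M C] (q : Ideal C) [q.IsPrime] :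
    Nonempty (Localization.AtPrime (q.comap (algebraMap B C)) ≃+* Localization.AtPrime q) := by
  haveI : IsLocalization.AtPrime (Localization.AtPrime q) (q.comap (algebraMap B C)) :=
    IsLocalization.isLocalization_isLocalization_atPrime_isLocalization M _ q
  exact ⟨(IsLocalization.algEquiv (q.comap (algebraMap B C)).primeCompl
    (Localization.AtPrime (q.comap (algebraMap B C))) (Localization.AtPrime q)).toRingEquiv⟩

theorem cm_loc_congr {B : Type u} [CommRing B] (p : Ideal B) [p.IsPrime] (q : Ideal B) [q.IsPrime] (h : p = q)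
    (hp : LocCoh.IsCohenMacaulayLocalRing (Localization.AtPrime p)) :
    LocCoh.IsCohenMacaulayLocalRing (Localization.AtPrime q) := by
  subst h; exact hp

theorem cm_laurent_at {A : Type u} [CommRing A] [IsNoetherianRing A] (q : Ideal A[T;T⁻¹]) [q.IsPrime]
    (h : LocCoh.IsCohenMacaulayLocalRing (Localization.AtPrime (q.comap (algebraMap A A[T;T⁻¹])))) :
    LocCoh.IsCohenMacaulayLocalRing (Localization.AtPrime q) := by
  let b : Ideal A[X] := q.comap (algebraMap A[X] A[T;T⁻¹])
  let e : MvPolynomial (Fin 1) A ≃+* A[X] := (MvPolynomial.uniqueAlgEquiv A (Fin 1)).toRingEquiv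
  let c : Ideal (MvPolynomial (Fin 1) A) := b.comap e.toRingHom
  have hc : c.comap (algebraMap A (MvPolynomial (Fin 1) A)) = q.comap (algebraMap A A[T;T⁻¹]) := by
    ext a
    show algebraMap A[X] A[T;T⁻¹] (e (MvPolynomial.C a)) ∈ q ↔ algebraMap A A[T;T⁻¹] a ∈ q
    rw [show e (MvPolynomial.C a) = algebraMap A A[X] a from
      (MvPolynomial.uniqueAlgEquiv A (Fin 1)).commutes a,
      show algebraMap A[X] A[T;T⁻¹] (algebraMap A A[X] a) = algebraMap A A[T;T⁻¹] a from Polynomial.toLaurent_C a]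
  have hA := cm_loc_congr _ _ hc.symm h
  have hmv : LocCoh.IsCohenMacaulayLocalRing (Localization.AtPrime c) :=
    (forall_skIneq_iff _).1 fun k => skIneq_of_fibre (A := A) k c ((forall_skIneq_iff _).2 hA k)
      (skIneq_fibLocRing (fun p _ => by
        haveI : IsRegularRing (p.Fiber (MvPolynomial (Fin 1) A)) := IsRegularRing.of_ringEquiv
          (MvPolynomial.algebraTensorAlgEquiv A p.ResidueField (σ := Fin 1)).symm.toRingEquiv
        haveI := UCat.isCM_of_regular (p.Fiber (MvPolynomial (Fin 1) A))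
        exact (cohenMacaulayRing_iff _).mp inferInstance k) c)
  obtain ⟨e2⟩ := loc_equiv_of_isLocalization (Submonoid.powers (Polynomial.X : A[X])) q
  exact SMT.isCM_of_ringEquiv ((Localization.localRingEquiv c b e rfl).trans e2) hmv

theorem cm_of_laurent_pT {A : Type u} [CommRing A] [IsNoetherianRing A] (p : Ideal A) [p.IsPrime]
    (h : LocCoh.IsCohenMacaulayLocalRing (Localization.AtPrime (pT p))) :
    LocCoh.IsCohenMacaulayLocalRing (Localization.AtPrime p) := by
  haveI := isNoetherianRing_laurent (A := A)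
  have hk : ((pT p).comap (algebraMap A A[T;T⁻¹])).map (algebraMap A (Localization.AtPrime (pT p))) =
      maximalIdeal _ := by
    rw [comap_pT, ← Localization.AtPrime.map_eq_maximalIdeal, IsScalarTower.algebraMap_eq A A[T;T⁻¹],
      ← Ideal.map_map]
    refine le_antisymm (Ideal.map_mono ?_) (Ideal.map_mono (pT_le_map p))
    rw [Ideal.map_le_iff_le_comap, comap_pT]
  let e : ResidueField (Localization.AtPrime (pT p)) ≃+* EGA4.FibLocRing A A[T;T⁻¹] (pT p) :=
    Ideal.quotEquivOfEq hk.symm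
  exact cm_loc_congr _ _ (comap_pT p) ((Cohen.cm_iff_of_flat (pT p) (fun k => SkIneq.congr e
    ((forall_skIneq_iff _).2 DepthLib.isCohenMacaulayLocalRing_of_isRegularLocalRing k))).1 h)

theorem cm_quot_loc_iff {R G : Type u} [CommRing R] [CommRing G] [IsNoetherianRing R] (φ : R →+* G)
    (hφ : Function.Surjective φ) (f : R) (hker : RingHom.ker φ = Ideal.span {f}) (hf : f ∈ nonZeroDivisors R)
    (P : Ideal G) [P.IsPrime] :
    LocCoh.IsCohenMacaulayLocalRing (Localization.AtPrime (P.comap φ)) ↔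
      LocCoh.IsCohenMacaulayLocalRing (Localization.AtPrime P) := by
  obtain ⟨e⟩ := Goren15.nonempty_localization_quotient_equiv φ hφ P
  have hfm : algebraMap R (Localization.AtPrime (P.comap φ)) f ∈ maximalIdeal _ := by
    rw [IsLocalization.AtPrime.to_map_mem_maximal_iff _ (P.comap φ)]
    show φ f ∈ P
    rw [RingHom.mem_ker.1 (hker.symm ▸ Ideal.mem_span_singleton_self f : f ∈ RingHom.ker φ)]
    exact P.zero_mem
  have hreg : IsSMulRegular (Localization.AtPrime (P.comap φ))
      (algebraMap R (Localization.AtPrime (P.comap φ)) f) :=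
    isSMulRegular_iff_right_eq_zero_of_smul.2 fun x hx =>
      (mem_nonZeroDivisors_iff.1 (IsLocalization.map_nonZeroDivisors_le (P.comap φ).primeCompl _
        (Submonoid.mem_map_of_mem _ hf))).1 x hx
  have hk : Ideal.span {algebraMap R (Localization.AtPrime (P.comap φ)) f} =
      (RingHom.ker φ).map (algebraMap R (Localization.AtPrime (P.comap φ))) := by
    rw [hker, Ideal.map_span, Set.image_singleton]
  let e' := (Ideal.quotEquivOfEq hk).trans e
  haveI := GorenLib.isLocalRing_quotient hfm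
  have key : LocCoh.IsCohenMacaulayLocalRing (Localization.AtPrime (P.comap φ)) ↔
      LocCoh.IsCohenMacaulayLocalRing (Localization.AtPrime (P.comap φ) ⧸
        Ideal.span {algebraMap R (Localization.AtPrime (P.comap φ)) f}) := by
    rw [Cohen.cm_iff_supportDim_le, Cohen.cm_iff_supportDim_le,
      ← GorenLib.ringKrullDim_quotient_add_one hfm hreg, ← GorenLib.depth_quotient_add_one hfm hreg,
      WithBot.coe_add]
    exact ⟨fun h => DepthLib.withBot_add_coe_cancel 1 (by exact_mod_cast h),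
      fun h => by exact_mod_cast add_le_add_left h 1⟩
  exact key.trans ⟨fun h => SMT.isCM_of_ringEquiv e' h, fun h => SMT.isCM_of_ringEquiv e'.symm h⟩

/-- The abstract form of the criterion. -/
theorem cm_off_iff {A : Type u} [CommRing A] [IsNoetherianRing A] {R G : Type u} [CommRing R] [CommRing G]
    [IsNoetherianRing R] [Algebra R A[T;T⁻¹]] [Algebra A R] [IsScalarTower A R A[T;T⁻¹]]
    (u : R) [IsLocalization.Away u A[T;T⁻¹]] (hu0 : u ∈ nonZeroDivisors R)
    (φ : R →+* G) (hφ : Function.Surjective φ) (hker : RingHom.ker φ = Ideal.span {u})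
    (I : Ideal A) (Rp : Ideal R)
    (hsup : ∀ (p : Ideal A) [p.IsPrime], I ≤ p → Rp ≤ (pT p).comap (algebraMap R A[T;T⁻¹]))
    (hsub : ∀ (p : Ideal A) [p.IsPrime], Rp ≤ (pT p).comap (algebraMap R A[T;T⁻¹]) → I ≤ p) :
    (∀ (P : Ideal R) [P.IsPrime], ¬ Rp ≤ P →
        LocCoh.IsCohenMacaulayLocalRing (Localization.AtPrime P)) ↔
      ((∀ (p : Ideal G) [p.IsPrime], ¬ Ideal.map φ Rp ≤ p →
          LocCoh.IsCohenMacaulayLocalRing (Localization.AtPrime p)) ∧
        (∀ (q : Ideal A) [q.IsPrime], ¬ I ≤ q →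
            LocCoh.IsCohenMacaulayLocalRing (Localization.AtPrime q))) := by
  constructor
  · refine fun h => ⟨fun p _ hp => ?_, fun q _ hq => ?_⟩
    · exact (cm_quot_loc_iff φ hφ u hker hu0 p).1 (h _ fun hle => hp (Ideal.map_le_iff_le_comap.2 hle))
    · refine cm_of_laurent_pT q ?_
      obtain ⟨e⟩ := loc_equiv_of_isLocalization (Submonoid.powers u) (pT q)
      exact SMT.isCM_of_ringEquiv e (h _ fun hle => hq (hsub q hle))
  · rintro ⟨hG, hA⟩ P _ hP
    by_cases hu : u ∈ P
    · haveI : (P.map φ).IsPrime := Ideal.map_isPrime_of_surjective hφ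
        (by rwa [hker, Ideal.span_singleton_le_iff_mem])
      have hP' : (P.map φ).comap φ = P := by
        rw [Ideal.comap_map_of_surjective φ hφ, ← RingHom.ker_eq_comap_bot, sup_eq_left, hker,
          Ideal.span_singleton_le_iff_mem]
        exact hu
      refine cm_loc_congr _ _ hP' ((cm_quot_loc_iff φ hφ u hker hu0 (P.map φ)).2 (hG _ fun hle => hP ?_))
      rw [← hP']
      exact Ideal.map_le_iff_le_comap.1 hle
    have hd : Disjoint (Submonoid.powers u : Set R) (P : Set R) :=
      Set.disjoint_left.2 fun _ ⟨n, hn⟩ hx => hu (Ideal.IsPrime.mem_of_pow_mem ‹_› n (by subst hn; exact hx))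
    haveI : (P.map (algebraMap R A[T;T⁻¹])).IsPrime :=
      IsLocalization.isPrime_of_isPrime_disjoint (Submonoid.powers u) _ P ‹_› hd
    have hcomap : (P.map (algebraMap R A[T;T⁻¹])).comap (algebraMap R A[T;T⁻¹]) = P := by
      rw [← Ideal.under_def]; exact IsLocalization.under_map_of_isPrime_disjoint (Submonoid.powers u) _ ‹_› hd
    obtain ⟨e⟩ := loc_equiv_of_isLocalization (Submonoid.powers u) (P.map (algebraMap R A[T;T⁻¹]))
    refine cm_loc_congr _ _ hcomap (SMT.isCM_of_ringEquiv e.symm (cm_laurent_at _ (hA _ fun hle => hP ?_)))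
    refine (hsup _ hle).trans (le_trans (Ideal.comap_mono ?_) hcomap.le)
    refine (pT_le_map _).trans ?_
    exact Ideal.map_comap_le

theorem C_mul_T_mem_pT_iff {A : Type u} [CommRing A] (p : Ideal A) (a : A) (n : ℤ) :
    LaurentPolynomial.C a * T n ∈ pT p ↔ a ∈ p := by
  rw [mem_pT]
  refine ⟨fun h => by simpa [coeff_C_mul_T] using h n, fun h m => ?_⟩
  rw [coeff_C_mul_T]
  split_ifs
  · exact h
  · exact zero_mem _

theorem cm_extRees_off_iff {A : Type u} [CommRing A] [IsNoetherianRing A] (𝓕 : FiltBl.IdealFiltration A)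
    (hfg : Algebra.FiniteType A 𝓕.rees) {G : Type u} [CommRing G] (φ : 𝓕.extRees →+* G)
    (hφ : Function.Surjective φ) (hker : RingHom.ker φ = Ideal.span {𝓕.u}) (Rp : Ideal 𝓕.extRees)
    (hRp : Rp = Ideal.span {x : 𝓕.extRees | ∃ n : ℕ, 0 < n ∧ ∃ a ∈ 𝓕.F n,
      (x : LaurentPolynomial A) = LaurentPolynomial.C a * T (n : ℤ)}) :
    (∀ (P : Ideal 𝓕.extRees) [P.IsPrime], ¬ Rp ≤ P →
        LocCoh.IsCohenMacaulayLocalRing (Localization.AtPrime P)) ↔
      ((∀ (p : Ideal G) [p.IsPrime], ¬ Ideal.map φ Rp ≤ p →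
          LocCoh.IsCohenMacaulayLocalRing (Localization.AtPrime p)) ∧
        (∀ (q : Ideal A) [q.IsPrime], ¬ 𝓕.F 1 ≤ q →
            LocCoh.IsCohenMacaulayLocalRing (Localization.AtPrime q))) := by
  haveI := isNoetherianRing_extRees 𝓕 hfg
  haveI := isLocalization_away_u 𝓕
  refine cm_off_iff 𝓕.u (u_mem_nonZeroDivisors 𝓕) φ hφ hker (𝓕.F 1) Rp (fun p _ hle => ?_) (fun p _ hle a ha => ?_)
  · rw [hRp, Ideal.span_le]
    rintro x ⟨n, hn, a, ha, hx⟩
    show (x : A[T;T⁻¹]) ∈ pT p
    rw [hx, C_mul_T_mem_pT_iff]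
    exact hle (𝓕.antitone hn ha)
  · have hmem : LaurentPolynomial.C a * T ((1 : ℕ) : ℤ) ∈ 𝓕.extRees := fun m => by
      rw [coeff_C_mul_T]
      split_ifs with h
      · subst h; exact ha
      · exact zero_mem _
    have := hle (hRp ▸ Ideal.subset_span ⟨1, one_pos, a, ha, rfl⟩ : (⟨_, hmem⟩ : 𝓕.extRees) ∈ Rp)
    exact (C_mul_T_mem_pT_iff p a _).1 this

end Groth.Agent.FiltBl28
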