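import Groth.Agent.Lib.FiltBl28.Serre

/-!
# `(S₂)` passes from the extended Rees algebra to the Rees algebra
-/

set_option autoImplicit false
set_option linter.style.haveILetI false

universe u

open Polynomial LaurentPolynomial IsLocalRing
open scoped Pointwise

namespace Groth.Agent.FiltBl28

open FlatDepth

theorem two_le_of_height {R : Type u} [CommRing R] [IsNoetherianRing R] (h : SkAll 2 R) (M : Ideal R) [M.IsPrime]
    (hM : 2 ≤ M.height) : 2 ≤ LocCoh.depth (Localization.AtPrime M) (Localization.AtPrime M) := by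
  have h1 := h M
  rw [SkIneq, IsLocalization.AtPrime.ringKrullDim_eq_height M] at h1
  rw [min_eq_left (show ((2 : ℕ) : WithBot ℕ∞) ≤ (M.height : WithBot ℕ∞) from WithBot.coe_le_coe.2 hM)] at h1
  exact WithBot.coe_le_coe.1 h1

theorem exists_notMem_mul_mem {R : Type u} [CommRing R] [IsNoetherianRing R] (M : Ideal R) [M.IsPrime]
    (hd : 2 ≤ LocCoh.depth (Localization.AtPrime M) (Localization.AtPrime M)) (a : R) (ha : a ∈ M)
    (ha0 : a ∈ nonZeroDivisors R) (f : R) (hf : ∀ g ∈ M, g * f ∈ Ideal.span {a}) :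
    ∃ t ∉ M, t * f ∈ Ideal.span {a} := by
  let L := Localization.AtPrime M
  let x := algebraMap R L a
  have hxm : x ∈ maximalIdeal L := (IsLocalization.AtPrime.to_map_mem_maximal_iff L M a).2 ha
  have hreg : IsSMulRegular L x :=
    isSMulRegular_iff_right_eq_zero_of_smul.2 fun y hy =>
      (mem_nonZeroDivisors_iff.1 (IsLocalization.map_nonZeroDivisors_le M.primeCompl _
        (Submonoid.mem_map_of_mem _ ha0))).1 y hy
  have h1 : (1 : ℕ∞) ≤ LocCoh.idealDepth (maximalIdeal L) (QuotSMulTop x L) := by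
    exact_mod_cast (DepthLib.natCast_le_idealDepth_quotSMulTop_iff hxm hreg 1).2 (by exact_mod_cast hd)
  haveI : Nontrivial (QuotSMulTop x L) := Submodule.Quotient.nontrivial_iff.mpr fun hT => by
    have h1' : (1 : L) ∈ x • (⊤ : Submodule L L) := by rw [hT]; trivial
    obtain ⟨y, -, hy⟩ := Submodule.mem_smul_pointwise_iff_exists _ _ _ |>.1 h1'
    exact (maximalIdeal.isMaximal L).ne_top (Ideal.eq_top_iff_one _ |>.2 (hy ▸ Ideal.mul_mem_right y _ hxm))
  obtain ⟨r, hr, hrreg⟩ := DepthLib.exists_isSMulRegular_of_one_le_idealDepth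
    (DepthLib.smul_top_ne_top (maximalIdeal.isMaximal L).ne_top) h1
  obtain ⟨⟨g, s⟩, hgs⟩ := IsLocalization.surj M.primeCompl r
  have hg : g ∈ M := (IsLocalization.AtPrime.to_map_mem_maximal_iff L M g).1 (hgs ▸ Ideal.mul_mem_right _ _ hr)
  have hz : (Submodule.Quotient.mk (algebraMap R L f) : QuotSMulTop x L) = 0 := by
    refine isSMulRegular_iff_right_eq_zero_of_smul.1 hrreg _ ?_
    rw [← Submodule.Quotient.mk_smul, Submodule.Quotient.mk_eq_zero, Submodule.mem_smul_pointwise_iff_exists]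
    obtain ⟨c, hc⟩ := Ideal.mem_span_singleton'.1 (hf g hg)
    obtain ⟨si, hsi⟩ := (IsLocalization.map_units L s)
    refine ⟨algebraMap R L c * (↑si⁻¹ : L), trivial, ?_⟩
    show x * _ = r * algebraMap R L f
    apply (IsLocalization.map_units L s).mul_right_cancel
    calc x * (algebraMap R L c * (↑si⁻¹ : L)) * algebraMap R L (s : R)
        = algebraMap R L (c * a) * ((↑si⁻¹ : L) * (si : L)) := by rw [map_mul, hsi]; ring
      _ = algebraMap R L g * algebraMap R L f := by rw [Units.inv_mul, mul_one, hc, map_mul]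
      _ = r * algebraMap R L f * algebraMap R L (s : R) := by rw [← hgs]; ring
  rw [Submodule.Quotient.mk_eq_zero, Submodule.mem_smul_pointwise_iff_exists] at hz
  obtain ⟨y, -, hy⟩ := hz
  obtain ⟨⟨c, t⟩, hct⟩ := IsLocalization.surj M.primeCompl y
  have he : algebraMap R L ((t : R) * f) = algebraMap R L (a * c) := by
    rw [map_mul, map_mul, ← hct, ← hy]
    show _ * (x * y) = _
    ring
  obtain ⟨v, hv⟩ := (IsLocalization.eq_iff_exists M.primeCompl L).1 he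
  exact ⟨(v : R) * t, (M.primeCompl.mul_mem v.2 t.2), Ideal.mem_span_singleton'.2 ⟨v * c, by linear_combination -hv⟩⟩

theorem mem_colon_mk_iff {R : Type u} [CommRing R] (I : Ideal R) (r f : R) :
    r ∈ (⊥ : Submodule R (R ⧸ I)).colon {Ideal.Quotient.mk I f} ↔ r * f ∈ I := by
  rw [Submodule.mem_colon_singleton, Submodule.mem_bot, Algebra.smul_def, Ideal.Quotient.algebraMap_eq,
    ← map_mul, Ideal.Quotient.eq_zero_iff_mem]

theorem isSMulRegular_loc {R : Type u} [CommRing R] (Q : Ideal R) [Q.IsPrime] {x : R}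
    (hx : x ∈ nonZeroDivisors R) :
    IsSMulRegular (Localization.AtPrime Q) (algebraMap R (Localization.AtPrime Q) x) :=
  isSMulRegular_iff_right_eq_zero_of_smul.2 fun y hy =>
    (mem_nonZeroDivisors_iff.1 (IsLocalization.map_nonZeroDivisors_le Q.primeCompl _
      (Submonoid.mem_map_of_mem _ hx))).1 y hy

theorem exists_mem_iff_mul_mem {R : Type u} [CommRing R] {I P : Ideal R}
    (h : IsAssociatedPrime P (R ⧸ I)) [IsNoetherianRing R] :
    P.IsPrime ∧ ∃ w : R, ∀ r, r ∈ P ↔ r * w ∈ I := by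
  obtain ⟨hp, z, hz⟩ := isAssociatedPrime_iff.1 h
  obtain ⟨w, rfl⟩ := Ideal.Quotient.mk_surjective z
  exact ⟨hp, w, fun r => hz ▸ mem_colon_mk_iff I r w⟩

theorem exists_assocPrime_above {R : Type u} [CommRing R] [IsNoetherianRing R] (I : Ideal R) {x : R} (hx : x ∉ I) :
    ∃ M : Ideal R, M.IsPrime ∧ (∀ g, g * x ∈ I → g ∈ M) ∧ ∃ w : R, ∀ r, r ∈ M ↔ r * w ∈ I := by
  obtain ⟨M, hM, hle⟩ := exists_le_isAssociatedPrime_of_isNoetherianRing R
    (Ideal.Quotient.mk I x) (fun h => hx (Ideal.Quotient.eq_zero_iff_mem.1 h))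
  obtain ⟨hp, hw⟩ := exists_mem_iff_mul_mem hM
  exact ⟨M, hp, fun g hg => hle ((mem_colon_mk_iff I g x).2 hg), hw⟩

variable {A : Type u} [CommRing A] (𝓕 : FiltBl.IdealFiltration A)

theorem mem_rees {f : A[X]} : f ∈ 𝓕.rees ↔ ∀ n, f.coeff n ∈ 𝓕.F n := Iff.rfl

theorem pow_mem_F {n : ℕ} {a : A} (ha : a ∈ 𝓕.F n) (N : ℕ) : a ^ N ∈ 𝓕.F (n * N) := by
  induction N with
  | zero => simp [𝓕.zero_eq]
  | succ N ih => rw [pow_succ, mul_add, mul_one]; exact 𝓕.mul_le _ _ (Ideal.mul_mem_mul ih ha)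

theorem coeff_toLaurent_natCast (f : A[X]) (m : ℕ) : f.toLaurent.coeff (m : ℤ) = f.coeff m := by
  rw [coeff_toLaurent]
  exact Finsupp.mapDomain_apply Nat.cast_injective _ _

theorem mem_rees_iff_toLaurent {f : A[X]} : f ∈ 𝓕.rees ↔ f.toLaurent ∈ 𝓕.extRees := by
  refine ⟨fun h => map_rees_le 𝓕 ⟨f, h, rfl⟩, fun h n => ?_⟩
  have := h (n : ℤ)
  rwa [coeff_toLaurent_natCast, Int.toNat_natCast] at this

/-- `rees ⊆ extRees`. -/
noncomputable def toExt : 𝓕.rees →+* 𝓕.extRees :=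
  (Polynomial.toLaurent.comp 𝓕.rees.val.toRingHom).codRestrict 𝓕.extRees
    fun f => (mem_rees_iff_toLaurent 𝓕).1 f.2

theorem toExt_injective : Function.Injective (toExt 𝓕) := fun f g h =>
  Subtype.ext (Polynomial.toLaurent_injective (congrArg Subtype.val h))

noncomputable def monR (n : ℕ) (a : A) (ha : a ∈ 𝓕.F n) : 𝓕.rees :=
  ⟨Polynomial.C a * Polynomial.X ^ n, fun m => by
    rw [Polynomial.coeff_C_mul_X_pow]
    split_ifs with h
    · subst h; exact ha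
    · exact zero_mem _⟩

theorem comps_mem {Q : Ideal 𝓕.extRees} (hpos : ∀ (n : ℕ) (a : A) (ha : a ∈ 𝓕.F n), 0 < n → toExt 𝓕 (monR 𝓕 n a ha) ∈ Q)
    (f : 𝓕.extRees) (h0 : ∀ n, algebraMap A 𝓕.extRees ((f : A[T;T⁻¹]).coeff n) ∈ Q) : f ∈ Q := by
  classical
  have hmem : ∀ n : ℤ, AddMonoidAlgebra.single n ((f : A[T;T⁻¹]).coeff n) ∈ 𝓕.extRees := by
    intro n m
    rw [AddMonoidAlgebra.coeff_single, Finsupp.single_apply]
    split_ifs with h
    · subst h; exact f.2 n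
    · exact zero_mem _
  have hsum : f = ∑ n ∈ (f : A[T;T⁻¹]).coeff.support, (⟨_, hmem n⟩ : 𝓕.extRees) := by
    apply Subtype.ext
    rw [AddSubmonoidClass.coe_finsetSum]
    exact (AddMonoidAlgebra.sum_coeff_single _).symm
  rw [hsum]
  refine Ideal.sum_mem _ fun n _ => ?_
  rcases lt_trichotomy n 0 with hn | hn | hn
  · obtain ⟨k, rfl⟩ : ∃ k : ℕ, n = -((k : ℤ) + 1) := ⟨(-n - 1).toNat, by omega⟩
    have he : (⟨_, hmem (-((k : ℤ) + 1))⟩ : 𝓕.extRees) =
        algebraMap A 𝓕.extRees ((f : A[T;T⁻¹]).coeff (-((k : ℤ) + 1))) * 𝓕.u ^ (k + 1) := by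
      apply Subtype.ext
      show AddMonoidAlgebra.single _ _ = LaurentPolynomial.C _ * (T (-1)) ^ (k + 1)
      rw [single_eq_C_mul_T, T_pow]
      congr 2
      push_cast; ring
    rw [he]
    exact Ideal.mul_mem_right _ _ (h0 _)
  · subst hn
    convert h0 0 using 1
    apply Subtype.ext
    show AddMonoidAlgebra.single _ _ = LaurentPolynomial.C _
    rw [single_eq_C_mul_T, T_zero, mul_one]
  · obtain ⟨k, rfl⟩ := Int.eq_ofNat_of_zero_le hn.le
    have ha : (f : A[T;T⁻¹]).coeff (k : ℤ) ∈ 𝓕.F k := by simpa using f.2 (k : ℤ)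
    convert hpos k _ ha (by omega) using 1
    apply Subtype.ext
    show AddMonoidAlgebra.single _ _ = Polynomial.toLaurent (Polynomial.C _ * Polynomial.X ^ k)
    rw [Polynomial.toLaurent_C_mul_X_pow, single_eq_C_mul_T]

theorem pT_comap_le {M : Ideal 𝓕.extRees} [M.IsPrime]
    (hpos : ∀ (n : ℕ) (a : A) (ha : a ∈ 𝓕.F n), 0 < n → toExt 𝓕 (monR 𝓕 n a ha) ∈ M) :
    (pT (M.comap (algebraMap A 𝓕.extRees))).comap (algebraMap 𝓕.extRees A[T;T⁻¹]) ≤ M :=
  fun f hf => comps_mem 𝓕 hpos f fun n => mem_pT.1 hf n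

/-- The height of a prime of the extended Rees algebra over the positive part. -/
theorem height_le {M : Ideal 𝓕.extRees} [M.IsPrime]
    (hpos : ∀ (n : ℕ) (a : A) (ha : a ∈ 𝓕.F n), 0 < n → toExt 𝓕 (monR 𝓕 n a ha) ∈ M) :
    (M.comap (algebraMap A 𝓕.extRees)).height ≤ M.height := by
  let φ : PrimeSpectrum A → PrimeSpectrum 𝓕.extRees := fun p =>
    ⟨(pT p.asIdeal).comap (algebraMap 𝓕.extRees A[T;T⁻¹]), inferInstance⟩
  have hφ : ∀ p, (φ p).asIdeal.comap (algebraMap A 𝓕.extRees) = p.asIdeal := fun p => comap_pT p.asIdeal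
  have hmono : StrictMono φ := by
    intro p q hpq
    refine lt_of_le_of_ne ?_ fun h => hpq.ne (PrimeSpectrum.ext (by rw [← hφ p, ← hφ q, h]))
    exact fun f hf => mem_pT.2 fun n => hpq.le (mem_pT.1 hf n)
  refine le_trans ?_ (Ideal.height_mono (pT_comap_le 𝓕 hpos))
  have := Order.height_le_height_apply_of_strictMono φ hmono ⟨M.comap (algebraMap A 𝓕.extRees), inferInstance⟩
  rwa [← PrimeSpectrum.height_eq_orderHeight, ← PrimeSpectrum.height_eq_orderHeight] at this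

theorem exists_nzd [IsNoetherianRing A] (hA : SkAll 2 A) (hht : 2 ≤ (𝓕.F 1).height) :
    ∃ a ∈ 𝓕.F 1, a ∈ nonZeroDivisors A := by
  by_contra hne
  push Not at hne
  obtain ⟨p, hp, hle⟩ := DepthLib.exists_associatedPrime_ge (R := A) (M := A) (I := 𝓕.F 1) fun r hr hreg =>
    hne r hr (mem_nonZeroDivisors_iff.2 ⟨fun z hz => hreg (by simpa using hz),
      fun z hz => hreg (by simpa [mul_comm] using hz)⟩)
  haveI := hp.isPrime
  have h2 := two_le_of_height hA p (hht.trans (Ideal.height_mono hle))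
  exact (one_le_depth_iff p).1 (le_trans (by norm_num) h2) hp

/-- Off `F 1`, the Rees algebra is a polynomial ring. -/
theorem skIneq_rees_of_notMem_C [IsNoetherianRing A] (hA : SkAll 2 A) (Q : Ideal 𝓕.rees) [Q.IsPrime]
    {a : A} (ha : a ∈ 𝓕.F 1) (haQ : algebraMap A 𝓕.rees a ∉ Q) : SkIneq 2 (Localization.AtPrime Q) := by
  refine skIneq_of_away 𝓕.rees.val.toRingHom (fun f g h => Subtype.ext h) _ (fun f => ?_) 2
    (SkAll.polynomial A hA) Q haQ
  refine ⟨f.natDegree, ⟨Polynomial.C (a ^ f.natDegree) * f, fun n => ?_⟩, ?_⟩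
  · rw [Polynomial.coeff_C_mul]
    rcases le_or_gt n f.natDegree with hn | hn
    · exact Ideal.mul_mem_right _ _ (𝓕.antitone hn (by simpa using pow_mem_F 𝓕 ha f.natDegree))
    · simp [Polynomial.coeff_eq_zero_of_natDegree_lt hn]
  · show Polynomial.C _ * f = Polynomial.C a ^ f.natDegree * f
    rw [map_pow]

theorem toExt_coe (g : 𝓕.rees) : ((toExt 𝓕 g : 𝓕.extRees) : A[T;T⁻¹]) = Polynomial.toLaurent (g : A[X]) := rfl

theorem monR_coe (n : ℕ) (a : A) (ha : a ∈ 𝓕.F n) :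
    ((monR 𝓕 n a ha : 𝓕.rees) : A[X]) = Polynomial.C a * Polynomial.X ^ n := rfl

theorem exists_pow_mul_eq_toExt {n : ℕ} {a : A} (ha : a ∈ 𝓕.F n) (hn : 0 < n) (f : 𝓕.extRees) :
    ∃ (N : ℕ) (g : 𝓕.rees), toExt 𝓕 g = toExt 𝓕 (monR 𝓕 n a ha) ^ N * f := by
  obtain ⟨N, g, hg⟩ := LaurentPolynomial.exists_T_pow (f : A[T;T⁻¹])
  have hN : N ≤ n * N := Nat.le_mul_of_pos_left N hn
  have hp : (Polynomial.C (a ^ N) * (g * Polynomial.X ^ (n * N - N))).toLaurent =
      ((toExt 𝓕 (monR 𝓕 n a ha) ^ N * f : 𝓕.extRees) : A[T;T⁻¹]) := by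
    rw [MulMemClass.coe_mul, SubmonoidClass.coe_pow, toExt_coe, monR_coe]
    rw [← map_pow Polynomial.toLaurent, mul_pow, ← pow_mul, ← map_pow]
    simp only [map_mul, Polynomial.toLaurent_X_pow, Polynomial.toLaurent_C, hg]
    rw [mul_assoc (LaurentPolynomial.C (a ^ N)), mul_assoc (f : A[T;T⁻¹]), ← T_add, mul_comm (f : A[T;T⁻¹]),
      show ((N : ℤ) + ((n * N - N : ℕ) : ℤ)) = ((n * N : ℕ) : ℤ) by omega]
  exact ⟨N, ⟨_, (mem_rees_iff_toLaurent 𝓕).2 (hp ▸ (toExt 𝓕 (monR 𝓕 n a ha) ^ N * f).2)⟩, Subtype.ext hp⟩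

theorem algebraMap_rees_nzd {a : A} (ha0 : a ∈ nonZeroDivisors A) :
    algebraMap A 𝓕.rees a ∈ nonZeroDivisors 𝓕.rees := by
  have key : ∀ z : 𝓕.rees, z * algebraMap A 𝓕.rees a = 0 → z = 0 := fun z hz => by
    refine Subtype.ext (Polynomial.ext fun m => ?_)
    have h := congrArg (fun w : 𝓕.rees => (w : A[X]).coeff m) hz
    simp only [MulMemClass.coe_mul, ZeroMemClass.coe_zero, Polynomial.coeff_zero] at h
    rw [show ((algebraMap A 𝓕.rees a : 𝓕.rees) : A[X]) = Polynomial.C a from rfl, Polynomial.coeff_mul_C] at h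
    simpa using (mem_nonZeroDivisors_iff.1 ha0).2 _ h
  exact mem_nonZeroDivisors_iff.2 ⟨fun z hz => key z (by rwa [mul_comm] at hz), key⟩

theorem coeff_mul_algebraMap (g : 𝓕.extRees) (a : A) (m : ℤ) :
    ((g * algebraMap A 𝓕.extRees a : 𝓕.extRees) : A[T;T⁻¹]).coeff m = (g : A[T;T⁻¹]).coeff m * a :=
  AddMonoidAlgebra.coeff_mul_single_zero (g : A[T;T⁻¹]) a m

theorem algebraMap_extRees_nzd {a : A} (ha0 : a ∈ nonZeroDivisors A) :
    algebraMap A 𝓕.extRees a ∈ nonZeroDivisors 𝓕.extRees := by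
  have key : ∀ z : 𝓕.extRees, z * algebraMap A 𝓕.extRees a = 0 → z = 0 := fun z hz => by
    refine Subtype.ext (AddMonoidAlgebra.ext (Finsupp.ext fun m => ?_))
    have h := coeff_mul_algebraMap 𝓕 z a m
    rw [hz] at h
    simpa using (mem_nonZeroDivisors_iff.1 ha0).2 _ h.symm
  exact mem_nonZeroDivisors_iff.2 ⟨fun z hz => key z (by rwa [mul_comm] at hz), key⟩

theorem exists_toExt_eq (g : 𝓕.extRees) (hneg : ∀ m : ℤ, m < 0 → (g : A[T;T⁻¹]).coeff m = 0) :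
    ∃ q : 𝓕.rees, toExt 𝓕 q = g := by
  obtain ⟨N, g', hg'⟩ := LaurentPolynomial.exists_T_pow (g : A[T;T⁻¹])
  obtain ⟨q, hq⟩ : Polynomial.X ^ N ∣ g' := Polynomial.X_pow_dvd_iff.2 fun d hd => by
    rw [← coeff_toLaurent_natCast, hg', coeff_T_mul]
    exact hneg _ (by omega)
  have hqg : q.toLaurent = (g : A[T;T⁻¹]) := by
    apply (isUnit_T (R := A) (N : ℤ)).mul_right_cancel
    rw [← hg', hq, map_mul, Polynomial.toLaurent_X_pow, mul_comm]
  exact ⟨⟨q, (mem_rees_iff_toLaurent 𝓕).2 (hqg ▸ g.2)⟩, Subtype.ext hqg⟩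

theorem toExt_algebraMap (a : A) : toExt 𝓕 (algebraMap A 𝓕.rees a) = algebraMap A 𝓕.extRees a :=
  Subtype.ext (Polynomial.toLaurent_C a)

/-- The positive part is not associated to `rees ⧸ (a)`. -/
theorem mem_span_of_forall_mul_mem [IsNoetherianRing A] [IsNoetherianRing 𝓕.extRees]
    (hht : 2 ≤ (𝓕.F 1).height) (h : SkAll 2 𝓕.extRees) {a : A} (ha : a ∈ 𝓕.F 1)
    (ha0 : a ∈ nonZeroDivisors A) (f : 𝓕.rees)
    (h1 : ∀ c ∈ 𝓕.F 1, algebraMap A 𝓕.rees c * f ∈ Ideal.span {algebraMap A 𝓕.rees a})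
    (h2 : ∀ (n : ℕ) (c : A) (hc : c ∈ 𝓕.F n), 0 < n →
      monR 𝓕 n c hc * f ∈ Ideal.span {algebraMap A 𝓕.rees a}) :
    f ∈ Ideal.span {algebraMap A 𝓕.rees a} := by
  let a' : 𝓕.extRees := algebraMap A 𝓕.extRees a
  have himg : ∀ r, r * f ∈ Ideal.span {algebraMap A 𝓕.rees a} → toExt 𝓕 r * toExt 𝓕 f ∈ Ideal.span {a'} := by
    intro r hr
    obtain ⟨c, hc⟩ := Ideal.mem_span_singleton'.1 hr
    refine Ideal.mem_span_singleton'.2 ⟨toExt 𝓕 c, ?_⟩
    show _ * algebraMap A 𝓕.extRees a = _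
    rw [← toExt_algebraMap, ← map_mul, hc, map_mul]
  by_cases hx : toExt 𝓕 f ∈ Ideal.span {a'}
  · obtain ⟨g, hg⟩ := Ideal.mem_span_singleton'.1 hx
    have hneg : ∀ m : ℤ, m < 0 → (g : A[T;T⁻¹]).coeff m = 0 := by
      intro m hm
      have h := coeff_mul_algebraMap 𝓕 g a m
      rw [hg] at h
      refine (mem_nonZeroDivisors_iff.1 ha0).2 _ (h.symm.trans ?_)
      show (f.1.toLaurent).coeff m = 0
      rw [coeff_toLaurent]
      exact Finsupp.mapDomain_of_notMem_range _ _ fun ⟨k, hk⟩ => by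
        have : (k : ℤ) = m := hk
        omega
    obtain ⟨q, rfl⟩ := exists_toExt_eq 𝓕 g hneg
    refine Ideal.mem_span_singleton'.2 ⟨q, toExt_injective 𝓕 ?_⟩
    rw [map_mul, toExt_algebraMap]
    exact hg
  · obtain ⟨M, hMp, hin, w', hMw⟩ := exists_assocPrime_above _ hx
    have hF : 𝓕.F 1 ≤ M.comap (algebraMap A 𝓕.extRees) := fun c hc => hin _ (by
      rw [← toExt_algebraMap]; exact himg _ (h1 c hc))
    have hhM : 2 ≤ M.height := (hht.trans (Ideal.height_mono hF)).trans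
      (height_le 𝓕 fun n c hc hn => hin _ (himg _ (h2 n c hc hn)))
    obtain ⟨t, ht, htw⟩ := exists_notMem_mul_mem M (two_le_of_height h M hhM) a' (hF ha)
      (algebraMap_extRees_nzd 𝓕 ha0) w' fun r hr => (hMw r).1 hr
    exact absurd ((hMw t).2 htw) ht

theorem skAll_two_rees [IsNoetherianRing A] (hfg : Algebra.FiniteType A 𝓕.rees)
    (hht : 2 ≤ (𝓕.F 1).height) (h : SkAll 2 𝓕.extRees) : SkAll 2 𝓕.rees := by
  haveI := Algebra.FiniteType.isNoetherianRing A 𝓕.rees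
  haveI := isNoetherianRing_extRees 𝓕 hfg
  have hA := ((skAll_two_extRees_iff 𝓕 hfg).1 h).2
  intro Q _
  by_cases h1 : ∃ a ∈ 𝓕.F 1, algebraMap A 𝓕.rees a ∉ Q
  · obtain ⟨a, ha, haQ⟩ := h1
    exact skIneq_rees_of_notMem_C 𝓕 hA Q ha haQ
  by_cases h2 : ∃ (n : ℕ) (a : A) (ha : a ∈ 𝓕.F n), 0 < n ∧ monR 𝓕 n a ha ∉ Q
  · obtain ⟨n, a, ha, hn, haQ⟩ := h2
    exact skIneq_of_away (toExt 𝓕) (toExt_injective 𝓕) _ (exists_pow_mul_eq_toExt 𝓕 ha hn) 2 h Q haQ
  push Not at h1 h2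
  refine le_trans (min_le_left _ _) ?_
  refine WithBot.coe_le_coe.2 ?_
  obtain ⟨a, ha, ha0⟩ := exists_nzd 𝓕 hA hht
  refine two_le_depth_of_notMem Q (h1 a ha) (isSMulRegular_loc Q (algebraMap_rees_nzd 𝓕 ha0)) fun hass => ?_
  obtain ⟨hQp, f, hQ⟩ := exists_mem_iff_mul_mem hass
  refine hQp.ne_top ((Ideal.eq_top_iff_one _).2 ((hQ 1).2 ?_))
  rw [one_mul]
  exact mem_span_of_forall_mul_mem 𝓕 hht h ha ha0 f (fun c hc => (hQ _).1 (h1 c hc))
    fun n c hc hn => (hQ _).1 (h2 n c hc hn)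

end Groth.Agent.FiltBl28
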