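import Groth.Agent.Lib.FiltBl28.Basic
import Groth.Agent.Lib.Goren15.Polynomial
import Groth.Agent.Lib.UCat.Universal
import Groth.Agent.Lib.FlatDepth.Locus
import Groth.Agent.Lib.Goren.Basic
import Groth.Agent.Lib.SerreCrit.Basic

/-!
# Serre's conditions for extended Rees algebras and Rees algebras
-/

set_option autoImplicit false
set_option linter.style.haveILetI false

universe u

open Polynomial LaurentPolynomial IsLocalRing

namespace Groth.Agent.FiltBl28

open FlatDepth

/-- `(S_k)` read on local rings. -/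
def SkAll (k : ℕ) (R : Type u) [CommRing R] : Prop :=
  ∀ (q : Ideal R) [q.IsPrime], SkIneq k (Localization.AtPrime q)

theorem SkAll.of_isLocalization {k : ℕ} {B C : Type u} [CommRing B] [CommRing C] [Algebra B C]
    (M : Submonoid B) [IsLocalization M C] (h : SkAll k B) : SkAll k C := by
  intro q _
  haveI : IsLocalization.AtPrime (Localization.AtPrime q) (q.comap (algebraMap B C)) :=
    IsLocalization.isLocalization_isLocalization_atPrime_isLocalization M _ q
  exact (h (q.comap (algebraMap B C))).congr (IsLocalization.algEquiv (q.comap (algebraMap B C)).primeCompl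
    (Localization.AtPrime (q.comap (algebraMap B C))) (Localization.AtPrime q)).toRingEquiv

theorem SkAll.polynomial {k : ℕ} (A : Type u) [CommRing A] [IsNoetherianRing A] (h : SkAll k A) :
    SkAll k A[X] := by
  have hmv : SkAll k (MvPolynomial (Fin 1) A) := by
    intro q _
    refine skIneq_of_fibre (A := A) k q (h _) (skIneq_fibLocRing (fun p _ => ?_) q)
    haveI : IsRegularRing (p.Fiber (MvPolynomial (Fin 1) A)) := IsRegularRing.of_ringEquiv
      (MvPolynomial.algebraTensorAlgEquiv A p.ResidueField (σ := Fin 1)).symm.toRingEquiv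
    haveI := UCat.isCM_of_regular (p.Fiber (MvPolynomial (Fin 1) A))
    exact (cohenMacaulayRing_iff _).mp inferInstance k
  let e : MvPolynomial (Fin 1) A ≃+* A[X] := (MvPolynomial.uniqueAlgEquiv A (Fin 1)).toRingEquiv
  intro b _
  exact (hmv (b.comap e.toRingHom)).congr (Localization.localRingEquiv _ _ e rfl)

theorem SkAll.laurent {k : ℕ} (A : Type u) [CommRing A] [IsNoetherianRing A] (h : SkAll k A) :
    SkAll k A[T;T⁻¹] :=
  (SkAll.polynomial A h).of_isLocalization (Submonoid.powers (Polynomial.X : A[X]))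

section PT

variable {A : Type u} [CommRing A]

/-- The prime `p[T, T⁻¹]`. -/
noncomputable def pT (p : Ideal A) : Ideal A[T;T⁻¹] :=
  RingHom.ker (AddMonoidAlgebra.mapRingHom ℤ (Ideal.Quotient.mk p))

theorem mem_pT {p : Ideal A} {f : A[T;T⁻¹]} : f ∈ pT p ↔ ∀ n, f.coeff n ∈ p := by
  rw [pT, RingHom.mem_ker]
  simp only [← Ideal.Quotient.eq_zero_iff_mem]
  refine ⟨fun h n => ?_, fun h => AddMonoidAlgebra.ext (Finsupp.ext fun n => ?_)⟩
  · rw [← AddMonoidAlgebra.coeff_mapRingHom, h]; simp
  · rw [AddMonoidAlgebra.coeff_mapRingHom, h]; simp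

instance (p : Ideal A) [p.IsPrime] : (pT p).IsPrime := by
  haveI : IsDomain (A ⧸ p)[T;T⁻¹] := inferInstance
  exact RingHom.ker_isPrime _

theorem comap_pT (p : Ideal A) : (pT p).comap (algebraMap A A[T;T⁻¹]) = p := by
  ext a
  rw [Ideal.mem_comap, mem_pT]
  refine ⟨fun h => ?_, fun h n => ?_⟩
  · simpa [LaurentPolynomial.algebraMap_apply] using h 0
  · rw [LaurentPolynomial.algebraMap_apply, Algebra.algebraMap_self, RingHom.id_apply]
    by_cases hn : (0 : ℤ) = n
    · subst hn; simpa using h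
    · simp [Ne.symm hn]

theorem pT_le_map (p : Ideal A) : pT p ≤ p.map (algebraMap A A[T;T⁻¹]) := by
  intro f hf
  classical
  rw [← AddMonoidAlgebra.sum_coeff_single f]
  refine Ideal.sum_mem _ fun n _ => ?_
  show AddMonoidAlgebra.single n (f.coeff n) ∈ _
  rw [single_eq_C_mul_T]
  exact Ideal.mul_mem_right _ _ (Ideal.mem_map_of_mem (algebraMap A A[T;T⁻¹]) (mem_pT.1 hf n))

theorem isNoetherianRing_laurent [IsNoetherianRing A] : IsNoetherianRing A[T;T⁻¹] :=
  IsLocalization.isNoetherianRing (Submonoid.powers (Polynomial.X : A[X])) _ inferInstance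

/-- Serre's conditions descend from Laurent polynomials. -/
theorem SkAll.of_laurent {k : ℕ} [IsNoetherianRing A] (h : SkAll k A[T;T⁻¹]) : SkAll k A := by
  intro p _
  haveI := isNoetherianRing_laurent (A := A)
  haveI : Module.Flat A A[T;T⁻¹] := inferInstance
  obtain ⟨hd, hdim⟩ := ring_invariants (A := A) (pT p)
  have hk : ((pT p).comap (algebraMap A A[T;T⁻¹])).map (algebraMap A (Localization.AtPrime (pT p))) =
      maximalIdeal _ := by
    rw [comap_pT, ← Localization.AtPrime.map_eq_maximalIdeal, IsScalarTower.algebraMap_eq A A[T;T⁻¹],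
      ← Ideal.map_map]
    refine le_antisymm (Ideal.map_mono ?_) (Ideal.map_mono (pT_le_map p))
    rw [Ideal.map_le_iff_le_comap, comap_pT]
  let e : ResidueField (Localization.AtPrime (pT p)) ≃+* EGA4.FibLocRing A A[T;T⁻¹] (pT p) :=
    Ideal.quotEquivOfEq hk.symm
  have h0 : ringKrullDim (EGA4.FibLocRing A A[T;T⁻¹] (pT p)) = 0 := by
    rw [← ringKrullDim_eq_of_ringEquiv e, ringKrullDim_eq_zero_of_field]
  have hd0 : LocCoh.depth (EGA4.FibLocRing A A[T;T⁻¹] (pT p)) (EGA4.FibLocRing A A[T;T⁻¹] (pT p)) = 0 :=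
    nonpos_iff_eq_zero.1 (WithBot.coe_le_coe.1 (DepthLib.depth_le_supportDim.trans
      ((Module.supportDim_self_eq_ringKrullDim _).le.trans h0.le)))
  have h1 := h (pT p)
  rw [SkIneq, hd, hdim, h0, hd0, add_zero, add_zero] at h1
  have key : ∀ (q : Ideal A) [q.IsPrime], q = p → SkIneq k (Localization.AtPrime q) →
      SkIneq k (Localization.AtPrime p) := by rintro _ _ rfl h; exact h
  exact key _ (comap_pT p) h1

end PT

theorem skIneq_succ_iff {R : Type u} [CommRing R] [IsLocalRing R] [IsNoetherianRing R] {f : R}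
    (hf : f ∈ maximalIdeal R) (hreg : IsSMulRegular R f) [IsLocalRing (R ⧸ Ideal.span {f})] (k : ℕ) :
    SkIneq (k + 1) R ↔ SkIneq k (R ⧸ Ideal.span {f}) := by
  rw [SkIneq, SkIneq, ← GorenLib.ringKrullDim_quotient_add_one hf hreg,
    ← GorenLib.depth_quotient_add_one hf hreg, ← Module.supportDim_self_eq_ringKrullDim]
  obtain ⟨d, hd⟩ := DepthLib.exists_supportDim_eq_natCast (R := R ⧸ Ideal.span {f}) (M := R ⧸ Ideal.span {f})
  obtain ⟨e, he⟩ := DepthLib.exists_depth_eq_natCast (R := R ⧸ Ideal.span {f}) (M := R ⧸ Ideal.span {f})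
  rw [hd, he]
  have e1 : ((d : WithBot ℕ∞) + 1) = ((d + 1 : ℕ) : WithBot ℕ∞) := by push_cast; rfl
  have e2 : (((e : ℕ∞) + 1 : ℕ∞) : WithBot ℕ∞) = ((((e + 1 : ℕ) : ℕ∞)) : WithBot ℕ∞) := by push_cast; rfl
  rw [e1, e2, DepthLib.cast_min_le_iff, DepthLib.cast_min_le_iff]
  omega

/-- Transfer of a local ring along `R[1/c] = C[1/c]`. -/
theorem skIneq_of_away {R C : Type u} [CommRing R] [CommRing C] (ι : R →+* C) (hι : Function.Injective ι)
    (c : R) (hc : ∀ f : C, ∃ N : ℕ, ∃ g : R, ι g = ι c ^ N * f) (k : ℕ) (h : SkAll k C)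
    (Q : Ideal R) [Q.IsPrime] (hQ : c ∉ Q) : SkIneq k (Localization.AtPrime Q) := by
  let Cc := Localization.Away (ι c)
  letI : Algebra R Cc := ((algebraMap C Cc).comp ι).toAlgebra
  have hu : IsUnit (algebraMap R Cc c) := IsLocalization.Away.algebraMap_isUnit (ι c)
  haveI : IsLocalization.Away c Cc := by
    refine IsLocalization.Away.mk c hu (fun z => ?_) (fun a b hab => ?_)
    · obtain ⟨n, f, hn⟩ := IsLocalization.Away.surj (ι c) z
      obtain ⟨N, g, hg⟩ := hc f
      refine ⟨n + N, g, ?_⟩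
      show z * algebraMap C Cc (ι c) ^ (n + N) = algebraMap C Cc (ι g)
      rw [hg, map_mul, map_pow, ← hn, pow_add]
      ring
    · obtain ⟨⟨_, n, rfl⟩, hn⟩ := (IsLocalization.eq_iff_exists (Submonoid.powers (ι c)) Cc).1
        (show algebraMap C Cc (ι a) = algebraMap C Cc (ι b) from hab)
      exact ⟨n, hι (by simpa [map_mul, map_pow] using hn)⟩
  have hd : Disjoint (Submonoid.powers c : Set R) (Q : Set R) :=
    Set.disjoint_left.2 fun _ ⟨n, hn⟩ hx => hQ (Ideal.IsPrime.mem_of_pow_mem ‹_› n (by subst hn; exact hx))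
  haveI : (Q.map (algebraMap R Cc)).IsPrime :=
    IsLocalization.isPrime_of_isPrime_disjoint (Submonoid.powers c) _ Q ‹_› hd
  haveI : IsLocalization.AtPrime (Localization.AtPrime (Q.map (algebraMap R Cc))) Q := by
    have := IsLocalization.isLocalization_isLocalization_atPrime_isLocalization (Submonoid.powers c)
      (Localization.AtPrime (Q.map (algebraMap R Cc))) (Q.map (algebraMap R Cc))
    convert this
    exact (IsLocalization.under_map_of_isPrime_disjoint (Submonoid.powers c) _ ‹_› hd).symm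
  exact ((h.of_isLocalization (C := Cc) (Submonoid.powers (ι c))) (Q.map (algebraMap R Cc))).congr
    (IsLocalization.algEquiv Q.primeCompl (Localization.AtPrime (Q.map (algebraMap R Cc))) _).toRingEquiv

theorem skAll_two_away_iff {A : Type u} [CommRing A] [IsNoetherianRing A]
    {R : Type u} [CommRing R] [IsNoetherianRing R] [Algebra R A[T;T⁻¹]] (u : R)
    [IsLocalization.Away u A[T;T⁻¹]] (hu0 : u ∈ nonZeroDivisors R) :
    SkAll 2 R ↔ SkAll 1 (R ⧸ Ideal.span {u}) ∧ SkAll 2 A := by
  let π := Ideal.Quotient.mk (Ideal.span {u})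
  have hloc : ∀ (P : Ideal (R ⧸ Ideal.span {u})) [P.IsPrime],
      SkIneq 2 (Localization.AtPrime (P.comap π)) ↔ SkIneq 1 (Localization.AtPrime P) := by
    intro P _
    obtain ⟨e⟩ := Goren15.nonempty_localization_quotient_equiv π Ideal.Quotient.mk_surjective P
    have hfm : algebraMap R (Localization.AtPrime (P.comap π)) u ∈ maximalIdeal _ := by
      rw [IsLocalization.AtPrime.to_map_mem_maximal_iff _ (P.comap π)]
      show π u ∈ P
      rw [Ideal.Quotient.eq_zero_iff_mem.2 (Ideal.mem_span_singleton_self _)]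
      exact P.zero_mem
    have hreg : IsSMulRegular (Localization.AtPrime (P.comap π))
        (algebraMap R (Localization.AtPrime (P.comap π)) u) :=
      isSMulRegular_iff_right_eq_zero_of_smul.2 fun x hx =>
        (mem_nonZeroDivisors_iff.1 (IsLocalization.map_nonZeroDivisors_le (P.comap π).primeCompl _
          (Submonoid.mem_map_of_mem _ hu0))).1 x hx
    have hk : Ideal.span {algebraMap R (Localization.AtPrime (P.comap π)) u} =
        (RingHom.ker π).map (algebraMap R (Localization.AtPrime (P.comap π))) := by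
      rw [Ideal.mk_ker, Ideal.map_span, Set.image_singleton]
    let e' := (Ideal.quotEquivOfEq hk).trans e
    haveI := GorenLib.isLocalRing_quotient hfm
    rw [skIneq_succ_iff hfm hreg 1]
    exact ⟨fun h => h.congr e', fun h => h.congr e'.symm⟩
  refine ⟨fun h => ⟨fun P _ => (hloc P).1 (h _),
    SkAll.of_laurent (h.of_isLocalization (Submonoid.powers u))⟩, fun ⟨hG, hA⟩ Q _ => ?_⟩
  by_cases hQ : u ∈ Q
  · haveI : (Q.map π).IsPrime := Ideal.map_isPrime_of_surjective Ideal.Quotient.mk_surjective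
      (by rwa [Ideal.mk_ker, Ideal.span_singleton_le_iff_mem])
    have hQ' : (Q.map π).comap π = Q := by
      rw [Ideal.comap_map_of_surjective π Ideal.Quotient.mk_surjective, ← RingHom.ker_eq_comap_bot,
        sup_eq_left, Ideal.mk_ker, Ideal.span_singleton_le_iff_mem]
      exact hQ
    have key : ∀ (Q₀ : Ideal R) [Q₀.IsPrime], Q₀ = Q → SkIneq 2 (Localization.AtPrime Q₀) →
        SkIneq 2 (Localization.AtPrime Q) := by rintro _ _ rfl h; exact h
    exact key _ hQ' ((hloc (Q.map π)).2 (hG _))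
  refine skIneq_of_away (algebraMap R A[T;T⁻¹]) ?_ u (fun f => ?_) 2 (SkAll.laurent A hA) Q hQ
  · exact IsLocalization.injective A[T;T⁻¹] (Submonoid.powers_le.2 hu0)
  · obtain ⟨n, g, hg⟩ := IsLocalization.Away.surj u f
    exact ⟨n, g, by rw [← hg, mul_comm]⟩

theorem skAll_two_extRees_iff {A : Type u} [CommRing A] [IsNoetherianRing A]
    (𝓕 : FiltBl.IdealFiltration A) (hfg : Algebra.FiniteType A 𝓕.rees) :
    SkAll 2 𝓕.extRees ↔ SkAll 1 𝓕.Gr ∧ SkAll 2 A :=
  haveI := isNoetherianRing_extRees 𝓕 hfg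
  haveI := isLocalization_away_u 𝓕
  skAll_two_away_iff 𝓕.u (u_mem_nonZeroDivisors 𝓕)

end Groth.Agent.FiltBl28
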